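import Cfsg.Agent.Lib.Spor.JFourLoc.SevX.Core
import Cfsg.Agent.Lib.Char.BSW.Two
import Cfsg.Agent.Lib.Char.BSW.Eqs

/-!
The order of the group and its identification with the symmetric group of degree five.
-/

set_option autoImplicit false
set_option linter.unusedSectionVars false
set_option linter.style.haveILetI false

namespace Cfsg.Agent.Spor.SevenX

open Cfsg
open scoped Classical

universe u

variable {X : Type u} [Group X] [Finite X] {Zt : X → Prop} {z p d i j : X} {n : ℕ} {T : Sylow 2 X} {X0 O : Subgroup X}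

variable (H : Shape Zt z T i j n) (S : SevData Zt z p d) (F : Half z T i j X0) (hZ : ∀ u, Zt u → u ∉ X0 ∧ IsConj z u)
  (D : Cent z i j X0 O)
include H S F hZ D

theorem Cent.card_half : Nat.card X0 = 60 ∧ Nat.card (X0 ⊓ Subgroup.centralizer ({i} : Set X) : Subgroup X) = 4 := by
  haveI : Fact (Nat.Prime 2) := ⟨Nat.prime_two⟩
  haveI : Fact (Nat.Prime 3) := ⟨Nat.prime_three⟩
  haveI hX0n : X0.Normal := Subgroup.normal_of_index_eq_two F.idx
  haveI : Fintype X0 := Fintype.ofFinite X0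
  have hz1 := H.zz S
  have hr : ∀ a ∈ O, ∀ l : ℤ, Commute ((z * j) ^ l) a := fun a ha l => (Commute.zpow_left (mul_inv_eq_iff_eq_mul.1 (by
    rw [show z * j * a * (z * j)⁻¹ = z * (j * a * j⁻¹) * z⁻¹ by group, D.jinv a ha, ← conj_inv, D.zinv a ha, inv_inv]) :
      Commute (z * j) a) l)
  have hjr : ∀ l : ℤ, j * (z * j) ^ l * j⁻¹ = (z * j) ^ (-l) := fun l => by
    rw [← conj_zpow, zpow_neg, ← inv_zpow]
    congr 1
    rw [mul_inv_rev, Fusion.invol_inv H.j2, Fusion.invol_inv (S.orderZ S.zZt),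
      show j * (z * j) * j = j * z * (j * j) by group, H.jj, mul_one]
  have hOT : ∀ a ∈ O, ∀ l : ℤ, a = (z * j) ^ l → a = 1 := fun a ha l e => by
    obtain ⟨m, hm⟩ := T.isPGroup' ⟨a, e ▸ zpow_mem (mul_mem H.zT H.jT) l⟩
    have h := pow_gcd_eq_one.2 ⟨(congrArg Subtype.val hm : a ^ 2 ^ m = 1), pow_orderOf_eq_one a⟩
    rwa [((Nat.coprime_two_left.2 (D.odd.of_dvd_nat (Subgroup.orderOf_dvd_natCard O ha))).pow_left m).gcd_eq_one,
      pow_one] at h
  let K0 : Subgroup X :=
    { carrier := {g | ∃ o ∈ O, ∃ l : ℤ, Even l ∧ g = o * (z * j) ^ l}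
      one_mem' := ⟨1, one_mem O, 0, ⟨0, rfl⟩, by simp⟩
      mul_mem' := by
        rintro a b ⟨o, ho, l, hl, rfl⟩ ⟨o', ho', l', hl', rfl⟩
        exact ⟨o * o', mul_mem ho ho', l + l', hl.add hl', by rw [(hr o' ho' l).mul_mul_mul_comm, ← zpow_add]⟩
      inv_mem' := by
        rintro a ⟨o, ho, l, hl, rfl⟩
        exact ⟨o⁻¹, inv_mem ho, -l, hl.neg, by rw [mul_inv_rev, ← zpow_neg, (hr _ (inv_mem ho) (-l)).eq]⟩ }
  have hK0X : K0 ≤ X0 := by
    rintro _ ⟨o, ho, l, hl, rfl⟩
    exact mul_mem (D.leX ho) ((F.rot l).2 hl)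
  have hK0i : ∀ g ∈ K0, Commute g i := by
    rintro _ ⟨o, ho, l, -, rfl⟩
    exact (D.icen o ho).mul_left (H.icen _ (zpow_mem (mul_mem H.zT H.jT) l)).symm
  have hK0ab : ∀ a ∈ K0, ∀ b ∈ K0, Commute a b := by
    rintro _ ⟨o, ho, l, -, rfl⟩ _ ⟨o', ho', l', -, rfl⟩
    exact ((D.comm o ho o' ho').mul_right (hr o ho l').symm).mul_left
      ((hr o' ho' l).mul_right ((Commute.refl _).zpow_zpow l l'))
  have hinv0 : ∀ g ∈ K0, j * g * j⁻¹ = g⁻¹ := by
    rintro _ ⟨o, ho, l, -, rfl⟩
    rw [← conj_mul, D.jinv o ho, hjr, mul_inv_rev, ← zpow_neg, (hr _ (inv_mem ho) (-l)).eq]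
  have hinvol : ∀ g ∈ K0, g * g = 1 → g = 1 ∨ g = i := by
    rintro _ ⟨o, ho, l, -, rfl⟩ h
    rw [(hr o ho l).mul_mul_mul_comm, ← zpow_add] at h
    have h1 : o * o = 1 := hOT _ (mul_mem ho ho) (-(l + l)) (by rw [zpow_neg]; exact eq_inv_of_mul_eq_one_left h)
    have ho1 : o = 1 := by
      have h' := pow_gcd_eq_one.2 ⟨(pow_two o).trans h1, pow_orderOf_eq_one o⟩
      rwa [(Nat.coprime_two_left.2 (D.odd.of_dvd_nat (Subgroup.orderOf_dvd_natCard O ho))).gcd_eq_one, pow_one] at h'
    rw [h1, one_mul, ← two_mul] at h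
    rw [ho1, one_mul]
    exact H.rot_invol S h
  set K := K0.subgroupOf X0 with hK
  set t : X0 := ⟨i, F.iX⟩ with ht
  set s : X0 := ⟨j, F.jX⟩ with hs
  have hiK : i ∈ K0 := by
    obtain ⟨m, hm⟩ := H.four
    refine ⟨1, one_mem O, ((2 * m : ℕ) : ℤ), by exact_mod_cast even_two_mul m, ?_⟩
    rw [one_mul, zpow_natCast, H.ihalf, hm, show 4 * m / 2 = 2 * m by omega]
  have hjK : j ∉ K0 := by
    rintro ⟨o, ho, l, -, e⟩
    have ho1 : o = 1 := by
      obtain ⟨m, hm⟩ := T.isPGroup' ⟨o, by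
        rw [eq_mul_inv_of_mul_eq e.symm]; exact mul_mem H.jT (inv_mem (zpow_mem (mul_mem H.zT H.jT) l))⟩
      have h := pow_gcd_eq_one.2 ⟨(congrArg Subtype.val hm : o ^ 2 ^ m = 1), pow_orderOf_eq_one o⟩
      rwa [((Nat.coprime_two_left.2 (D.odd.of_dvd_nat (Subgroup.orderOf_dvd_natCard O ho))).pow_left m).gcd_eq_one,
        pow_one] at h
    rw [ho1, one_mul] at e
    refine H.z_not_rot S (1 + l) ?_
    rw [zpow_one_add, ← e, mul_assoc, H.jj, mul_one]
  have hdec : ∀ g ∈ X0, Commute g i → g ∈ K0 ∨ ∃ a ∈ K0, g = a * j := by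
    intro g hg hgi
    obtain ⟨o, ho, l, ⟨hl, rfl⟩ | ⟨hl, rfl⟩⟩ := D.decomp g hg hgi
    · exact Or.inl ⟨o, ho, l, hl, rfl⟩
    · refine Or.inr ⟨o * (z * j) ^ (-l + 1), ⟨o, ho, -l + 1, hl.neg.add_odd odd_one, rfl⟩, ?_⟩
      rw [mul_assoc]
      congr 1
      rw [zpow_add_one, mul_assoc, mul_assoc, H.jj, mul_one, H.rpow_z S, neg_neg]
  have hCtx : Char.BSW.Ctx t s K := by
    refine ⟨by rw [ht, Subgroup.orderOf_mk, H.i2],
      fun a ha b hb => Subtype.ext (hK0ab _ (Subgroup.mem_subgroupOf.1 ha) _ (Subgroup.mem_subgroupOf.1 hb)).eq,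
      fun a ha => Subgroup.mem_centralizer_singleton_iff.2 (Subtype.ext (hK0i _ (Subgroup.mem_subgroupOf.1 ha)).eq),
      Subgroup.mem_subgroupOf.2 hiK, by rw [hs, Subgroup.orderOf_mk, H.j2],
      Subgroup.mem_centralizer_singleton_iff.2 (Subtype.ext (H.icen j H.jT).symm.eq),
      fun h => hjK (Subgroup.mem_subgroupOf.1 h), ?_, ?_,
      fun a ha => Subtype.ext (hinv0 _ (Subgroup.mem_subgroupOf.1 ha)), ?_, ?_⟩
    · refine le_antisymm (sup_le (fun a ha => Subgroup.mem_centralizer_singleton_iff.2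
        (Subtype.ext (hK0i _ (Subgroup.mem_subgroupOf.1 ha)).eq))
        (Subgroup.zpowers_le.2 (Subgroup.mem_centralizer_singleton_iff.2 (Subtype.ext (H.icen j H.jT).symm.eq)))) ?_
      intro g hg
      rcases hdec g g.2 (congrArg Subtype.val (Subgroup.mem_centralizer_singleton_iff.1 hg)) with h | ⟨a, ha, e⟩
      · exact Subgroup.mem_sup_left (Subgroup.mem_subgroupOf.2 h)
      · rw [show g = ⟨a, hK0X ha⟩ * s from Subtype.ext e]
        exact Subgroup.mul_mem_sup (Subgroup.mem_subgroupOf.2 ha) (Subgroup.mem_zpowers s)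
    · refine le_antisymm (fun g hg => ?_) (Subgroup.zpowers_le.2 ⟨Subgroup.mem_subgroupOf.2 hiK,
        Subgroup.mem_centralizer_singleton_iff.2 (Subtype.ext (H.icen j H.jT).eq)⟩)
      obtain ⟨hgK, hgs⟩ := hg
      have hgj : Commute (g : X) j := congrArg Subtype.val (Subgroup.mem_centralizer_singleton_iff.1 hgs)
      have h := hinv0 _ (Subgroup.mem_subgroupOf.1 hgK)
      rw [← hgj.eq, mul_inv_cancel_right] at h
      rcases hinvol _ (Subgroup.mem_subgroupOf.1 hgK) (mul_eq_one_iff_eq_inv.2 h) with e | e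
      · rw [show g = 1 from Subtype.ext e]; exact one_mem _
      · rw [show g = t from Subtype.ext e]; exact Subgroup.mem_zpowers t
    · intro g hg
      refine (Subgroup.eq_bot_iff_forall _).2 fun c hc => ?_
      obtain ⟨hc1, b, hb, hbc⟩ := hc
      have hbc' : (g : X) * b * (g : X)⁻¹ = c := congrArg Subtype.val hbc
      by_contra c1
      have hcK : (c : X) ∈ K0 := Subgroup.mem_subgroupOf.1 hc1
      have hbK : (b : X) ∈ K0 := Subgroup.mem_subgroupOf.1 hb
      apply hg
      refine Subgroup.mem_centralizer_singleton_iff.2 (Subtype.ext ?_)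
      show (g : X) * i = i * g
      have hob : orderOf (b : X) = orderOf (c : X) := by
        rw [← hbc', show (g : X) * b * (g : X)⁻¹ = MulAut.conj (g : X) (b : X) by simp, MulEquiv.orderOf_eq]
      have hc0 : (c : X) ≠ 1 := fun e => c1 (Subtype.ext e)
      rcases Nat.even_or_odd (orderOf (c : X)) with he | hoo
      · obtain ⟨m, hm⟩ := he
        have key : ∀ w ∈ K0, orderOf w = orderOf (c : X) → w ^ m = i := fun w hw hwo => by
          refine (hinvol _ (pow_mem hw m) (by rw [← pow_add, ← hm, ← hwo, pow_orderOf_eq_one])).resolve_left fun e => ?_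
          have := orderOf_dvd_of_pow_eq_one e
          rw [hwo, hm] at this
          have hpos : 0 < m := by have := orderOf_pos (c : X); omega
          have := Nat.le_of_dvd hpos this
          omega
        have e1 := key _ hcK rfl
        rw [← hbc', conj_pow, key _ hbK hob] at e1
        exact mul_inv_eq_iff_eq_mul.1 e1
      · exact (D.ti g g.2 _ (D.mem _ (hK0i _ hbK) (hob ▸ hoo))
          (fun e => hc0 (by rw [← hbc', e]; group)) (hbc' ▸ D.mem _ (hK0i _ hcK) hoo)).eq
    · intro a b ha hb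
      have key : ∀ a : X0, orderOf a = 2 → IsConj t a := fun a ha => by
        obtain ⟨g, hg, e⟩ := F.invol a a.2
          (by have h := pow_orderOf_eq_one a; rw [ha, pow_two] at h; exact congrArg Subtype.val h)
          (fun e => by rw [show a = 1 from Subtype.ext e, orderOf_one] at ha; norm_num at ha)
        exact isConj_iff.2 ⟨⟨g, hg⟩, Subtype.ext e⟩
      exact (key a ha).symm.trans (key b hb)
  have hcentEq : Nat.card (X0 ⊓ Subgroup.centralizer ({i} : Set X) : Subgroup X) =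
      Nat.card (Subgroup.centralizer ({t} : Set X0)) :=
    Nat.card_congr
      { toFun := fun g => ⟨⟨g, g.2.1⟩, Subgroup.mem_centralizer_singleton_iff.2
          (Subtype.ext (Subgroup.mem_centralizer_singleton_iff.1 g.2.2))⟩
        invFun := fun g => ⟨g.1, g.1.2, Subgroup.mem_centralizer_singleton_iff.2
          (congrArg Subtype.val (Subgroup.mem_centralizer_singleton_iff.1 g.2))⟩
        left_inv := fun _ => rfl
        right_inv := fun _ => rfl }
  rw [hcentEq, hCtx.card_H]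
  have hp0 : p ∈ X0 := F.odd p (by rw [S.p5]; decide)
  have h5 : 5 ∣ Nat.card X0 := S.p5 ▸ Subgroup.orderOf_dvd_natCard X0 hp0
  have hk2 : 2 ∣ Nat.card K := by
    rw [← hCtx.t2]; exact Subgroup.orderOf_dvd_natCard K hCtx.tK
  rw [hCtx.card_eq] at h5 ⊢
  rcases eq_or_ne (Nat.card K) 2 with hk | hk
  · rw [hk] at h5 ⊢
    rcases Char.BSW.index_three_or_fifteen hCtx hk with e | e <;> rw [e] at h5 ⊢
    · norm_num at h5
    · norm_num
  exfalso
  have hk4 : 4 ≤ Nat.card K := by
    obtain ⟨c, hc⟩ := hk2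
    have := Nat.card_pos (α := K)
    omega
  obtain ⟨ε, q, m, W⟩ := Char.BSW.exists_data hCtx hk4
  -- an element of order three inverted by the involution
  set Cz := Subgroup.centralizer ({z} : Set X) with hCz
  obtain ⟨b, hb⟩ := exists_prime_orderOf_dvd_card' (G := Cz) 3 (by rw [S.cardZ z S.zZt]; norm_num)
  have hbo : orderOf (b : X) = 3 := by rw [Subgroup.orderOf_coe, hb]
  have hb0 : (b : X) ∈ X0 := F.odd _ (by rw [hbo]; decide)
  have hbi : ¬ Commute (b : X) i := fun h => S.not3_cent H.ii H.i_ne H.iZ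
    (hbo ▸ Subgroup.orderOf_dvd_natCard _ (mem_cent.2 h))
  let P3 : Sylow 3 Cz := Sylow.ofCard (Subgroup.zpowers b) (by
    rw [Nat.card_zpowers, hb, S.cardZ z S.zZt, show (12 : ℕ) = 3 ^ 1 * 4 from rfl,
      Nat.factorization_mul (by norm_num) (by norm_num), Finsupp.add_apply, Nat.prime_three.factorization_pow,
      Finsupp.single_eq_same, Nat.factorization_eq_zero_of_not_dvd (by norm_num : ¬ 3 ∣ 4), add_zero, pow_one])
  set NP3 := Subgroup.normalizer ((P3 : Subgroup Cz) : Set Cz) with hNP3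
  have hNtop : NP3 = ⊤ := by
    have hzC : (⟨z, mem_cent.2 (Commute.refl z)⟩ : Cz) ∈ NP3 := by
      refine Subgroup.mem_normalizer_iff.2 fun a => ?_
      rw [show (⟨z, mem_cent.2 (Commute.refl z)⟩ : Cz) * a * (⟨z, mem_cent.2 (Commute.refl z)⟩ : Cz)⁻¹ = a from
        mul_inv_eq_iff_eq_mul.2 (Subtype.ext (mem_cent.1 a.2).symm.eq)]
    have h2 : 2 ∣ Nat.card NP3 := by
      have := Subgroup.orderOf_dvd_natCard NP3 hzC
      rwa [Subgroup.orderOf_mk, S.orderZ S.zZt] at this
    have h3 : 3 ∣ Nat.card NP3 := by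
      have := Subgroup.card_dvd_of_le (Subgroup.le_normalizer (H := (P3 : Subgroup Cz)))
      rwa [show Nat.card (P3 : Subgroup Cz) = 3 by rw [show (P3 : Subgroup Cz) = Subgroup.zpowers b from rfl,
        Nat.card_zpowers, hb]] at this
    have h6 : 6 ∣ Nat.card NP3 := Nat.Coprime.mul_dvd_of_dvd_of_dvd (by norm_num : Nat.Coprime 2 3) h2 h3
    have hidx := Subgroup.card_mul_index NP3
    have hn : Nat.card (Sylow 3 Cz) = NP3.index := Sylow.card_eq_index_normalizer P3
    rw [S.cardZ z S.zZt] at hidx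
    have hmod := card_sylow_modEq_one 3 Cz
    rw [hn] at hmod
    obtain ⟨c, hc⟩ := h6
    rw [hc] at hidx
    have hd : NP3.index ∣ 2 := Dvd.intro_left c (by linarith)
    rcases (Nat.dvd_prime Nat.prime_two).1 hd with e | e
    · exact Subgroup.index_eq_one.1 e
    · rw [e] at hmod; exact absurd hmod (by decide)
  have hiinv : i * b * i⁻¹ = (b : X)⁻¹ := by
    obtain ⟨e, he⟩ := (Subgroup.mem_normalizer_iff.1
      (hNtop ▸ Subgroup.mem_top (⟨i, mem_cent.2 (H.icen z H.zT)⟩ : Cz) : (⟨i, mem_cent.2 (H.icen z H.zT)⟩ : Cz) ∈ NP3) b).1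
        (Subgroup.mem_zpowers b)
    have he' : (b : X) ^ e = i * b * i⁻¹ := congrArg Subtype.val he
    have h3' : (b : X) ^ e = (b : X) ^ (e % 3) := by
      conv_lhs => rw [← zpow_mod_orderOf, hbo]
      rfl
    rcases (show e % 3 = 0 ∨ e % 3 = 1 ∨ e % 3 = 2 by omega) with r | r | r <;> rw [r] at h3'
    · rw [zpow_zero] at h3'
      rw [h3', eq_comm, conj_eq_one_iff] at he'
      rw [he', orderOf_one] at hbo; norm_num at hbo
    · rw [zpow_one] at h3'
      exact absurd (mul_inv_eq_iff_eq_mul.1 (he'.symm.trans h3')).symm hbi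
    · rw [← he', h3', eq_inv_iff_mul_eq_one, ← zpow_add_one, show (2 : ℤ) + 1 = ((3 : ℕ) : ℤ) by norm_num,
        zpow_natCast, ← hbo, pow_orderOf_eq_one]
  set B : X0 := ⟨b, hb0⟩ with hB
  have hBo : orderOf B = 3 := by rw [hB, Subgroup.orderOf_mk, hbo]
  have hB1 : B ≠ 1 := fun e => by rw [e, orderOf_one] at hBo; norm_num at hBo
  have hinK : ¬ Char.BSW.InK K B := by
    rintro ⟨a, ha⟩
    have h : Commute ((a : X)⁻¹ * b * a) i := hK0i _ (Subgroup.mem_subgroupOf.1 ha)
    have h2 := (Commute.conj_iff (a : X)).2 h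
    rw [show (a : X) * ((a : X)⁻¹ * b * a) * (a : X)⁻¹ = b by group] at h2
    have hz' := S.three_invol hbo (v := (a : X) * i * (a : X)⁻¹) (by rw [conj_mul, H.ii, mul_one, mul_inv_cancel])
      (fun e => H.i_ne (conj_eq_one_iff.1 e)) h2.symm
    exact (hZ _ hz').1 (mul_mem (mul_mem a.2 F.iX) (inv_mem a.2))
  have hlow : 0 < Char.BSW.invCount t B := by
    have hne : (i : X) * b ≠ 1 := fun e => by
      have hbi' : (b : X) = i := by
        rw [eq_inv_of_mul_eq_one_right e, Fusion.invol_inv H.i2]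
      rw [hbi', H.i2] at hbo; norm_num at hbo
    haveI : Nonempty {u : X0 // IsConj t u ∧ IsConj t (u * B)} := ⟨⟨t, IsConj.refl t, hCtx.isConj_iff_order.2
      (orderOf_eq_prime (Subtype.ext (by
        show ((i * b) ^ 2 : X) = 1
        rw [pow_two, show i * (b : X) * (i * b) = (i * b * i⁻¹) * (i * i) * b by group, hiinv, H.ii, mul_one,
          inv_mul_cancel])) fun e => hne (congrArg Subtype.val e))⟩⟩
    exact Nat.card_pos
  have hupp : Char.BSW.invCount t B ≤ 3 := by
    set L := X0 ⊓ Subgroup.centralizer ({(b : X)} : Set X) with hL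
    have hL3 : Nat.card L ≤ 3 := by
      obtain ⟨h6, u, hu, hub⟩ := S.three (b : X) hbo
      have hd : Nat.card L ∣ 6 := h6 ▸ Subgroup.card_dvd_of_le inf_le_right
      have hne : Nat.card L ≠ 6 := fun e => by
        have e2 : L = Subgroup.centralizer ({(b : X)} : Set X) :=
          Subgroup.eq_of_le_of_card_ge inf_le_right (by rw [h6, e])
        exact (hZ u hu).1 (e2.symm ▸ mem_cent.2 hub : u ∈ L).1
      have := Nat.le_of_dvd (by norm_num) hd
      by_contra h
      interval_cases (Nat.card L) <;> simp_all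
    refine le_trans ?_ hL3
    refine Nat.card_le_card_of_injective (fun u => (⟨i * ((u : X0) : X), mul_mem F.iX (u : X0).2, mem_cent.2 ?_⟩ : L))
      fun u v e => Subtype.ext (Subtype.ext (mul_left_cancel (congrArg Subtype.val e)))
    obtain ⟨u, hu, hub⟩ := u
    have hu2 : (u : X) * u = 1 := congrArg Subtype.val (hCtx.invol_mul_self hu)
    have hub2 : (u : X) * b * (u * b) = 1 := congrArg Subtype.val (hCtx.invol_mul_self hub)
    have hub' : (u : X) * b * (u : X)⁻¹ = (b : X)⁻¹ := by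
      rw [inv_eq_of_mul_eq_one_right hu2, eq_inv_iff_mul_eq_one, mul_assoc]
      exact hub2
    refine mul_inv_eq_iff_eq_mul.1 ?_
    show i * (u : X) * b * (i * (u : X))⁻¹ = b
    rw [show i * (u : X) * b * (i * (u : X))⁻¹ = i * ((u : X) * b * (u : X)⁻¹) * i⁻¹ by group, hub', ← conj_inv, hiinv,
      inv_inv]
  have hidx := W.index
  rcases W.sec B hB1 hinK with ⟨-, e⟩ | ⟨-, e⟩
  · rcases W.eps with r | r
    · have hq := W.hq
      rw [r] at e hq
      have : (Char.BSW.invCount t B : ℤ) ≤ 3 := by exact_mod_cast hupp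
      have : (4 : ℤ) ≤ Nat.card K := by exact_mod_cast hk4
      linarith
    · rw [r] at e
      have : (0 : ℤ) < Char.BSW.invCount t B := by exact_mod_cast hlow
      linarith
  · have hm := W.hm
    have hq := W.hq
    have h3 : m ≤ 3 := e ▸ hupp
    have hε : ε = -1 ∧ Nat.card K = 4 := by
      rcases W.eps with r | r <;> rw [r] at hm
      · exfalso
        have : (m : ℤ) ≤ 3 := by exact_mod_cast h3
        have : (4 : ℤ) ≤ Nat.card K := by exact_mod_cast hk4
        linarith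
      · exact ⟨r, by
          have : (m : ℤ) ≤ 3 := by exact_mod_cast h3
          have : (4 : ℤ) ≤ Nat.card K := by exact_mod_cast hk4
          have : (Nat.card K : ℤ) = 4 := by linarith
          exact_mod_cast this⟩
    rw [hε.2, hε.1] at hq hm
    have hm3 : m = 3 := by norm_num at hm; exact_mod_cast hm
    have hq7 : q = 7 := by norm_num at hq; exact_mod_cast hq
    rw [hidx, hm3, hq7, hε.2] at h5
    norm_num at h5

omit H F hZ D in
theorem SevData.result : Nat.card X = 120 ∧ Nonempty (X ≃* Equiv.Perm (Fin 5)) ∧ ∀ u, Zt u → IsConj z u := by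
  haveI : Fact (Nat.Prime 5) := ⟨by norm_num⟩
  haveI : Fact (Nat.Prime 3) := ⟨Nat.prime_three⟩
  obtain ⟨T, i, j, n, H⟩ := S.exists_shape
  obtain ⟨X0, F, hZ⟩ := H.exists_half S
  obtain ⟨O, D⟩ := H.exists_cent S F hZ
  obtain ⟨h60, hW4⟩ := D.card_half H S F hZ
  haveI hX0n : X0.Normal := Subgroup.normal_of_index_eq_two F.idx
  have h120 : Nat.card X = 120 := by rw [← X0.card_mul_index, h60, F.idx]
  refine ⟨h120, ?_, fun u hu => (hZ u hu).2⟩
  set W := X0 ⊓ Subgroup.centralizer ({i} : Set X) with hWdef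
  have hiW : i ∈ W := ⟨F.iX, mem_cent.2 (Commute.refl i)⟩
  have hjW : j ∈ W := ⟨F.jX, mem_cent.2 (H.icen j H.jT).symm⟩
  set NW := Subgroup.normalizer (W : Set X) with hNW
  have hWab : ∀ a ∈ W, ∀ b ∈ W, Commute a b := fun a ha b hb => by
    letI := IsPGroup.commGroupOfCardEqPrimeSq (p := 2) (G := W) (by rw [hW4]; norm_num)
    exact congrArg Subtype.val (mul_comm (G := W) ⟨a, ha⟩ ⟨b, hb⟩)
  -- an element moving the involution
  obtain ⟨k, hk, hkj⟩ := F.invol j F.jX H.jj H.j_ne
  have hsame : ∀ g ∈ X0, ∀ v, g * i * g⁻¹ = v → v ∈ W → g ∈ NW := by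
    intro g hg v hv hvW
    have hmap : W.map (MulAut.conj g).toMonoidHom = W := by
      refine (Subgroup.eq_of_le_of_card_ge ?_ (by rw [Subgroup.card_map_of_injective (MulAut.conj g).injective])).symm
      intro a ha
      rw [Subgroup.mem_map_equiv, MulAut.conj_symm_apply]
      refine ⟨X0.mul_mem (X0.mul_mem (X0.inv_mem hg) ha.1) hg, mem_cent.2 ?_⟩
      have h := (Commute.conj_iff g⁻¹).2 (hWab a ha v hvW)
      rwa [inv_inv, ← hv, show g⁻¹ * (g * i * g⁻¹) * g = i by group] at h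
    refine Subgroup.mem_normalizer_iff.2 fun a => ?_
    conv_rhs => rw [← hmap, Subgroup.mem_map_equiv, MulAut.conj_symm_apply,
      show g⁻¹ * (g * a * g⁻¹) * g = a by group]
  set N0 := NW ⊓ X0 with hN0
  have hkN : k ∈ N0 := ⟨hsame k hk j hkj hjW, hk⟩
  have hWN : W ≤ N0 := fun a ha => ⟨Subgroup.le_normalizer ha, ha.1⟩
  have hN12 : Nat.card N0 = 12 := by
    have hc : Nat.card N0 = Nat.card (N0 ⧸ W.subgroupOf N0) * 4 := by
      rw [Subgroup.card_eq_card_quotient_mul_card_subgroup (W.subgroupOf N0),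
        Nat.card_congr (Subgroup.subgroupOfEquivOfLe hWN).toEquiv, hW4]
    have hcent : ∀ g ∈ N0, Commute g i → g ∈ W := fun g hg h => ⟨hg.2, mem_cent.2 h⟩
    let φ : N0 ⧸ W.subgroupOf N0 → {a : W // a ≠ 1} := Quotient.lift
      (fun g : N0 => (⟨⟨(g : X) * i * (g : X)⁻¹, (Subgroup.mem_normalizer_iff.1 g.2.1 i).1 hiW⟩,
        fun e => H.i_ne (conj_eq_one_iff.1 (congrArg Subtype.val e))⟩ : {a : W // a ≠ 1}))
      (fun a b hab => Subtype.ext (Subtype.ext (by
        have h : (a : X)⁻¹ * b ∈ W := by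
          have h' : a⁻¹ * b ∈ W.subgroupOf N0 := by rw [← QuotientGroup.leftRel_apply]; exact hab
          exact h'
        show (a : X) * i * (a : X)⁻¹ = b * i * (b : X)⁻¹
        rw [show (b : X) * i * (b : X)⁻¹ = a * (((a : X)⁻¹ * b) * i * ((a : X)⁻¹ * b)⁻¹) * (a : X)⁻¹ by group,
          (mem_cent.1 h.2).eq, mul_inv_cancel_right])))
    have hinj : Function.Injective φ := by
      rintro ⟨a⟩ ⟨b⟩ e
      refine Quotient.sound (QuotientGroup.leftRel_apply.2 ?_)
      have e' : (a : X) * i * (a : X)⁻¹ = b * i * (b : X)⁻¹ := congrArg (fun s => ((s.1 : W) : X)) e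
      refine hcent _ (mul_mem (inv_mem a.2) b.2) (mul_inv_eq_iff_eq_mul.1 ?_)
      show (a : X)⁻¹ * b * i * ((a : X)⁻¹ * b)⁻¹ = i
      rw [show (a : X)⁻¹ * b * i * ((a : X)⁻¹ * b)⁻¹ = (a : X)⁻¹ * (b * i * (b : X)⁻¹) * a by group, ← e']
      group
    have hle : Nat.card (N0 ⧸ W.subgroupOf N0) ≤ 3 := by
      refine (Nat.card_le_card_of_injective φ hinj).trans (le_of_eq ?_)
      haveI := Fintype.ofFinite W
      rw [Nat.card_eq_fintype_card, Fintype.card_subtype_compl, Fintype.card_subtype_eq, ← Nat.card_eq_fintype_card, hW4]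
    have hge : 2 ≤ Nat.card (N0 ⧸ W.subgroupOf N0) := by
      by_contra h
      push Not at h
      have h1 : Nat.card N0 ≤ Nat.card W := by rw [hc, hW4]; omega
      have hkW : k ∈ W := (Subgroup.eq_of_le_of_card_ge hWN h1) ▸ hkN
      rw [(mem_cent.1 hkW.2).eq, mul_inv_cancel_right] at hkj
      have h2 : (z * j) ^ 2 = 1 := by
        have hzi := H.icen z H.zT
        rw [hkj] at hzi
        rw [pow_two, hzi.mul_mul_mul_comm, H.jj, H.zz S, one_mul]
      have := orderOf_dvd_of_pow_eq_one h2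
      rw [H.ord] at this
      have := Nat.le_of_dvd (by norm_num) (H.four.trans this)
      omega
    have hd : Nat.card N0 ∣ 60 := h60 ▸ Subgroup.card_dvd_of_le inf_le_right
    rcases (show Nat.card (N0 ⧸ W.subgroupOf N0) = 2 ∨ Nat.card (N0 ⧸ W.subgroupOf N0) = 3 by omega) with e | e
    · rw [hc, e] at hd; norm_num at hd
    · rw [hc, e]
  have hzN : z ∈ NW := by
    have hzi : Commute z i := (H.icen z H.zT).symm
    refine Subgroup.mem_normalizer_iff.2 fun a => ?_
    have key : ∀ a ∈ W, z * a * z⁻¹ ∈ W := fun a ha => ⟨hX0n.conj_mem a ha.1 z, mem_cent.2 (by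
      have h := (Commute.conj_iff z).2 (mem_cent.1 ha.2)
      rwa [hzi.eq, mul_inv_cancel_right] at h)⟩
    refine ⟨key a, fun h => ?_⟩
    have := key _ h
    rwa [show z * (z * a * z⁻¹) * z⁻¹ = (z * z) * a * (z * z)⁻¹ by group, H.zz S, one_mul, inv_one, mul_one] at this
  have hN24 : Nat.card NW = 24 := by
    have h2 : (X0.subgroupOf NW).index = 2 := by
      rw [Subgroup.index_eq_two_iff]
      refine ⟨⟨z, hzN⟩, fun b => ?_⟩
      simp only [Subgroup.mem_subgroupOf, Subgroup.coe_mul]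
      by_cases hb : (b : X) ∈ X0
      · exact Or.inr ⟨hb, fun h => F.zn ((X0.mul_mem_cancel_left hb).1 h)⟩
      · exact Or.inl ⟨(Subgroup.mul_mem_iff_of_index_two F.idx).2 (iff_of_false hb F.zn), hb⟩
    rw [← Subgroup.card_mul_index (X0.subgroupOf NW), h2, ← Subgroup.inf_subgroupOf_left,
      Nat.card_congr (Subgroup.subgroupOfEquivOfLe inf_le_left).toEquiv, hN12]
  have hidx5 : Nat.card (X ⧸ NW) = 5 := by
    have := NW.card_mul_index
    rw [hN24, h120] at this
    rw [← Subgroup.index_eq_card]; omega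
  let ψ := MulAction.toPermHom X (X ⧸ NW)
  have hker : ψ.ker = ⊥ := by
    have hR : ψ.ker = NW.normalCore := (Subgroup.normalCore_eq_ker NW).symm
    set R := ψ.ker with hRdef
    have hR24 : Nat.card R ∣ 24 := hN24 ▸ Subgroup.card_dvd_of_le (hR.le.trans (Subgroup.normalCore_le NW))
    haveI : R.Normal := MonoidHom.normal_ker ψ
    letI : MulAction (Subgroup.zpowers p) R :=
      { smul := fun a r => ⟨a * (r : X) * (a : X)⁻¹, (inferInstance : R.Normal).conj_mem r r.2 a⟩
        one_smul := fun r => Subtype.ext (by show (1 : X) * r * (1 : X)⁻¹ = r; group)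
        mul_smul := fun a b r => Subtype.ext (by
          show (a : X) * b * r * ((a : X) * b)⁻¹ = a * (b * r * (b : X)⁻¹) * (a : X)⁻¹; group) }
    have hfix : ∀ r : R, r ∈ MulAction.fixedPoints (Subgroup.zpowers p) R → r = 1 := fun r hr => by
      have h : p * (r : X) * p⁻¹ = r := congrArg Subtype.val (hr ⟨p, Subgroup.mem_zpowers p⟩)
      have hd := Subgroup.orderOf_dvd_natCard _ (mem_cent.2 (mul_inv_eq_iff_eq_mul.1 h : Commute p (r : X)).symm)
      rw [S.cardP] at hd
      have hd2 : orderOf (r : X) ∣ 24 := (Subgroup.orderOf_dvd_natCard R r.2).trans hR24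
      exact Subtype.ext (orderOf_eq_one_iff.1 (Nat.eq_one_of_dvd_coprimes (by norm_num : Nat.Coprime 5 24) hd hd2))
    have hcf : Nat.card (MulAction.fixedPoints (Subgroup.zpowers p) R) = 1 := by
      rw [Nat.card_eq_one_iff_unique]
      exact ⟨⟨fun a b => Subtype.ext ((hfix a a.2).trans (hfix b b.2).symm)⟩,
        ⟨⟨1, fun a => Subtype.ext (by show (a : X) * 1 * (a : X)⁻¹ = 1; group)⟩⟩⟩
    have hmod := (IsPGroup.of_card (n := 1) (by rw [Nat.card_zpowers, S.p5, pow_one]) :
      IsPGroup 5 (Subgroup.zpowers p)).card_modEq_card_fixedPoints R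
    rw [hcf] at hmod
    have hcases : Nat.card R = 1 ∨ Nat.card R = 6 :=
      (show ∀ m ∈ Nat.divisors 24, m % 5 = 1 → m = 1 ∨ m = 6 by decide +kernel) _
        (Nat.mem_divisors.2 ⟨hR24, by norm_num⟩) hmod
    rcases hcases with e | e
    · exact Subgroup.card_eq_one.1 e
    exfalso
    obtain ⟨b, hb⟩ := exists_prime_orderOf_dvd_card' (G := R) 3 (by rw [e]; norm_num)
    have hidx : (Subgroup.zpowers b).index = 2 := by
      have := Subgroup.card_mul_index (Subgroup.zpowers b)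
      rw [Nat.card_zpowers, hb, e] at this
      omega
    have hbo : orderOf (b : X) = 3 := by rw [Subgroup.orderOf_coe, hb]
    have hmem3 : ∀ c : R, c ^ 3 = 1 → c ∈ Subgroup.zpowers b := fun c hc => by
      have h := Subgroup.mul_self_mem_of_index_two hidx c
      have : c = (c * c) * (c * c) := by
        rw [pow_succ, pow_two] at hc
        calc c = c * (c * c * c) := by rw [hc, mul_one]
          _ = (c * c) * (c * c) := by group
      rw [this]; exact mul_mem h h
    have hpN : Subgroup.zpowers p ≤ Subgroup.normalizer (Subgroup.zpowers (b : X) : Set X) := by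
      intro a ha
      refine Subgroup.mem_normalizer_iff.2 ?_
      have key : ∀ a : X, ∀ v ∈ Subgroup.zpowers (b : X), a * v * a⁻¹ ∈ Subgroup.zpowers (b : X) := by
        rintro a _ ⟨l, rfl⟩
        obtain ⟨l', hl'⟩ := hmem3 ⟨a * (b : X) * a⁻¹, (inferInstance : R.Normal).conj_mem _ b.2 a⟩
          (Subtype.ext (by
            show (a * (b : X) * a⁻¹) ^ 3 = 1
            rw [conj_pow, ← hbo, pow_orderOf_eq_one, mul_one, mul_inv_cancel]))
        refine ⟨l' * l, ?_⟩
        show (b : X) ^ (l' * l) = a * (b : X) ^ l * a⁻¹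
        rw [zpow_mul, show (b : X) ^ l' = a * b * a⁻¹ from congrArg Subtype.val hl', conj_zpow]
      exact fun v => ⟨key a v, fun h => by
        have := key a⁻¹ _ h
        rwa [inv_inv, show a⁻¹ * (a * v * a⁻¹) * a = v by group] at this⟩
    have hcent := Char.SmallOrderGraph.le_centralizer_of_coprime (Subgroup.zpowers (b : X)) (Subgroup.zpowers p)
      Nat.prime_three (by rw [Nat.card_zpowers, hbo]) hpN (by rw [Nat.card_zpowers, S.p5]; norm_num)
    have hpb : Commute (b : X) p :=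
      Subgroup.mem_centralizer_iff.1 (hcent (Subgroup.mem_zpowers p)) b (Subgroup.mem_zpowers _)
    have hd := Subgroup.orderOf_dvd_natCard _ (mem_cent.2 hpb)
    rw [S.cardP, hbo] at hd
    norm_num at hd
  have hinj : Function.Injective ψ := (MonoidHom.ker_eq_bot_iff ψ).1 hker
  haveI := Fintype.ofFinite (X ⧸ NW)
  have hbij : Function.Bijective ψ := (Nat.bijective_iff_injective_and_card ψ).2 ⟨hinj, by
    rw [Nat.card_perm, hidx5, h120]; rfl⟩
  exact ⟨(MulEquiv.ofBijective ψ hbij).trans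
    (Equiv.permCongrHom (Finite.equivFinOfCardEq hidx5))⟩

end Cfsg.Agent.Spor.SevenX
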