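import Cfsg.Agent.Lib.Spor.JFourLoc.SevX.Fusion
import Cfsg.Agent.Lib.Spor.M22UPrimeCount
import Cfsg.Agent.Lib.Char.ZStar
import Cfsg.Agent.Lib.Char.SmallOrderGraph.FiveLocal
import Cfsg.Agent.Lib.Fusion.DihedralFours
import Cfsg.Agent.Lib.Fusion.Dihedral
import Cfsg.Agent.Lib.Solv.Basic
import Cfsg.Agent.S0209

/-!
A group with small centralisers of the elements of order two, three and five: no normal complement and the shape of
the Sylow 2-subgroups.
-/

set_option autoImplicit false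
set_option linter.unusedSectionVars false
set_option linter.style.haveILetI false

namespace Cfsg.Agent.Spor.SevenX

open Cfsg

universe u

variable {X : Type u} [Group X] [Finite X] {Zt : X → Prop} {z p d : X}

/-- the hypotheses -/
structure SevData (Zt : X → Prop) (z p d : X) : Prop where
  zZt : Zt z
  conjZ : ∀ g u, Zt u → Zt (g * u * g⁻¹)
  sqZ : ∀ u, Zt u → u * u = 1
  neZ : ∀ u, Zt u → u ≠ 1
  cardZ : ∀ u, Zt u → Nat.card (Subgroup.centralizer ({u} : Set X)) = 12
  three : ∀ b, orderOf b = 3 → Nat.card (Subgroup.centralizer ({b} : Set X)) = 6 ∧ ∃ u, Zt u ∧ Commute u b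
  p5 : orderOf p = 5
  cardP : Nat.card (Subgroup.centralizer ({p} : Set X)) = 5
  dp : d * p * d⁻¹ = p ^ 2
  d4 : d ^ 4 = 1
  n25 : ¬ 25 ∣ Nat.card X

theorem mem_cent {a b : X} : a ∈ Subgroup.centralizer ({b} : Set X) ↔ Commute a b :=
  Subgroup.mem_centralizer_singleton_iff

variable (S : SevData Zt z p d)
include S

theorem SevData.orderZ {u : X} (hu : Zt u) : orderOf u = 2 :=
  orderOf_eq_prime (by rw [pow_two]; exact S.sqZ u hu) (S.neZ u hu)

/-- involutions commuting with an element of order three are special -/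
theorem SevData.three_invol {b v : X} (hb : orderOf b = 3) (hv : v * v = 1) (hv1 : v ≠ 1) (hvb : Commute v b) :
    Zt v := by
  obtain ⟨h6, u, hu, hub⟩ := S.three b hb
  set C := Subgroup.centralizer ({b} : Set X) with hC
  have hbC : b ∈ C := mem_cent.2 (Commute.refl b)
  have hZ : Nat.card (Subgroup.zpowers (⟨b, hbC⟩ : C)) = 3 := by rw [Nat.card_zpowers, Subgroup.orderOf_mk, hb]
  have hidx : (Subgroup.zpowers (⟨b, hbC⟩ : C)).index = 2 := by
    have := Subgroup.card_mul_index (Subgroup.zpowers (⟨b, hbC⟩ : C))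
    rw [hZ, h6] at this
    omega
  have hnot : ∀ (w : X) (hw : w ∈ C), w * w = 1 → w ≠ 1 → (⟨w, hw⟩ : C) ∉ Subgroup.zpowers (⟨b, hbC⟩ : C) := by
    intro w hw hw2 hw1 h
    have hd := Subgroup.orderOf_dvd_natCard _ h
    rw [hZ, Subgroup.orderOf_mk, orderOf_eq_prime (by rw [pow_two]; exact hw2) hw1] at hd
    norm_num at hd
  have hmul : (⟨v, mem_cent.2 hvb⟩ : C) * ⟨u, mem_cent.2 hub⟩ ∈ Subgroup.zpowers (⟨b, hbC⟩ : C) := by
    have h := Subgroup.mul_mem_iff_of_index_two hidx (a := (⟨v, mem_cent.2 hvb⟩ : C)) (b := ⟨u, mem_cent.2 hub⟩)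
    exact h.2 (iff_of_false (hnot v _ hv hv1) (hnot u _ (S.sqZ u hu) (S.neZ u hu)))
  obtain ⟨l, hl⟩ := hmul
  have hl' : b ^ l = v * u := congrArg Subtype.val hl
  have hvl : v = b ^ l * u := by rw [hl', mul_assoc, S.sqZ u hu, mul_one]
  have hcb : Commute (b ^ l) u := hub.symm.zpow_left l
  have h2 : b ^ l * b ^ l = 1 := by
    rw [hvl, hcb.symm.mul_mul_mul_comm, S.sqZ u hu, mul_one] at hv
    exact hv
  have h3 : (b ^ l) ^ 3 = 1 := by
    rw [← zpow_natCast, ← zpow_mul, mul_comm, zpow_mul, zpow_natCast, ← hb, pow_orderOf_eq_one, one_zpow]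
  rw [pow_succ, pow_two, h2, one_mul] at h3
  rw [hvl, h3, one_mul]
  exact hu

/-- no element of order three commutes with a non-special involution -/
theorem SevData.not3_cent {v : X} (hv : v * v = 1) (hv1 : v ≠ 1) (hvZ : ¬ Zt v) :
    ¬ 3 ∣ Nat.card (Subgroup.centralizer ({v} : Set X)) := fun h => by
  haveI : Fact (Nat.Prime 3) := ⟨Nat.prime_three⟩
  obtain ⟨b, hb⟩ := exists_prime_orderOf_dvd_card' (G := Subgroup.centralizer ({v} : Set X)) 3 h
  exact hvZ (S.three_invol (b := (b : X)) (by rw [Subgroup.orderOf_coe, hb]) hv hv1 (mem_cent.1 b.2).symm)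

/-- centralisers of the elements of order five -/
theorem SevData.five_cent {q : X} (hq : orderOf q = 5) :
    Nat.card (Subgroup.centralizer ({q} : Set X)) = 5 := by
  haveI : Fact (Nat.Prime 5) := ⟨by norm_num⟩
  have h5 : 5 ∣ Nat.card X := S.p5 ▸ orderOf_dvd_natCard p
  obtain ⟨k, hk⟩ := M22U.PrimeCount.conj_of_card (G := X) (p := 5) (by norm_num) h5
    (fun h => S.n25 (by norm_num at h ⊢; exact h)) (X := Subgroup.zpowers p) (Y := Subgroup.zpowers q)
    (by rw [Nat.card_zpowers, S.p5]) (by rw [Nat.card_zpowers, hq])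
  have hc : ∀ a : X, Subgroup.centralizer ({a} : Set X) = Subgroup.centralizer (Subgroup.zpowers a : Set X) := fun a => by
    rw [Subgroup.zpowers_eq_closure, Subgroup.centralizer_closure]
  rw [← S.cardP, hc, hc, ← hk]
  refine Nat.card_congr
    { toFun := fun c => ⟨k⁻¹ * c * k, Subgroup.mem_centralizer_iff.2 fun a ha => ?_⟩
      invFun := fun c => ⟨k * c * k⁻¹, Subgroup.mem_centralizer_iff.2 fun a ha => ?_⟩
      left_inv := fun c => Subtype.ext (by show k * (k⁻¹ * (c : X) * k) * k⁻¹ = c; group)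
      right_inv := fun c => Subtype.ext (by show k⁻¹ * (k * (c : X) * k⁻¹) * k = c; group) }
  · have h := Subgroup.mem_centralizer_iff.1 c.2 (k * a * k⁻¹) ⟨a, ha, rfl⟩
    calc a * (k⁻¹ * (c : X) * k) = k⁻¹ * (k * a * k⁻¹ * c) * k := by group
      _ = k⁻¹ * ((c : X) * (k * a * k⁻¹)) * k := by rw [h]
      _ = _ := by group
  · obtain ⟨b, hb, rfl⟩ := ha
    show k * b * k⁻¹ * (k * (c : X) * k⁻¹) = k * (c : X) * k⁻¹ * (k * b * k⁻¹)
    rw [conj_mul, conj_mul, Subgroup.mem_centralizer_iff.1 c.2 b hb]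

theorem SevData.not5_cent {v : X} (hv : v * v = 1) (hv1 : v ≠ 1) :
    ¬ 5 ∣ Nat.card (Subgroup.centralizer ({v} : Set X)) := fun h => by
  haveI : Fact (Nat.Prime 5) := ⟨by norm_num⟩
  obtain ⟨b, hb⟩ := exists_prime_orderOf_dvd_card' (G := Subgroup.centralizer ({v} : Set X)) 5 h
  have hd := Subgroup.orderOf_dvd_natCard _ (mem_cent.2 (mem_cent.1 b.2).symm : v ∈ Subgroup.centralizer ({(b : X)} : Set X))
  rw [S.five_cent (by rw [Subgroup.orderOf_coe, hb]), orderOf_eq_prime (by rw [pow_two]; exact hv) hv1] at hd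
  norm_num at hd

theorem SevData.not9 : ¬ 9 ∣ Nat.card X := fun h => by
  haveI : Fact (Nat.Prime 3) := ⟨Nat.prime_three⟩
  obtain ⟨R, hR⟩ := Sylow.exists_subgroup_card_pow_prime (G := X) 3 (n := 2) h
  letI := IsPGroup.commGroupOfCardEqPrimeSq (p := 3) (G := R) hR
  obtain ⟨b, hb⟩ := exists_prime_orderOf_dvd_card' (G := R) 3 (by rw [hR]; norm_num)
  have hle : R ≤ Subgroup.centralizer ({(b : X)} : Set X) := fun a ha =>
    mem_cent.2 (congrArg Subtype.val (mul_comm (G := R) ⟨a, ha⟩ b))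
  have := Subgroup.card_dvd_of_le hle
  rw [hR, (S.three (b : X) (by rw [Subgroup.orderOf_coe, hb])).1] at this
  norm_num at this

/-- an element of odd order commuting with a special involution has order at most three -/
theorem SevData.cz_odd {u c : X} (hu : Zt u) (hc : Odd (orderOf c)) (huc : Commute u c) : orderOf c ∣ 3 := by
  have h := Subgroup.orderOf_dvd_natCard _ (mem_cent.2 huc.symm : c ∈ Subgroup.centralizer ({u} : Set X))
  rw [S.cardZ u hu] at h
  exact (Nat.Coprime.dvd_mul_left ((Nat.coprime_two_right.2 hc).pow_right 2)).1 h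

/-- no normal complement of a Sylow 2-subgroup -/
theorem SevData.no_npc : ¬ HasNormalPComplement 2 X := by
  intro hnpc
  haveI : Fact (Nat.Prime 2) := ⟨Nat.prime_two⟩
  haveI : Fact (Nat.Prime 3) := ⟨Nat.prime_three⟩
  set K := pResidual 2 X with hKdef
  have hK2 : Odd (Nat.card K) := Nat.coprime_two_right.1 (Fusion.hnpc_iff.1 hnpc)
  have hodd : ∀ g : X, Odd (orderOf g) → g ∈ K := by
    intro g hg
    obtain ⟨m, hm⟩ := IsPGroup.iff_card.1 (Fusion.isPGroup_quotient_pResidual (p := 2) (G := X))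
    refine (QuotientGroup.eq_one_iff g).1 ?_
    have h1 : orderOf (g : X ⧸ K) ∣ orderOf g := orderOf_map_dvd (QuotientGroup.mk' K) g
    have h2 : orderOf (g : X ⧸ K) ∣ 2 ^ m := hm ▸ orderOf_dvd_natCard _
    exact orderOf_eq_one_iff.1 (Nat.eq_one_of_dvd_coprimes ((Nat.coprime_two_right.2 hg).pow_right m) h1 h2)
  obtain ⟨a, ha⟩ := exists_prime_orderOf_dvd_card' (G := Subgroup.centralizer ({z} : Set X)) 3
    (by rw [S.cardZ z S.zZt]; norm_num)
  have hao : orderOf (a : X) = 3 := by rw [Subgroup.orderOf_coe, ha]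
  have haK : (a : X) ∈ K := hodd _ (by rw [hao]; decide)
  have hpK : p ∈ K := hodd _ (by rw [S.p5]; decide)
  -- the Sylow subgroup for three of the complement
  have hd3 : 3 ∣ Nat.card K := hao ▸ Subgroup.orderOf_dvd_natCard K haK
  let P3 : Sylow 3 K := Sylow.ofCard (Subgroup.zpowers (⟨(a : X), haK⟩ : K)) (by
    have hne : (Nat.card K) ≠ 0 := Nat.card_pos.ne'
    have hle : (Nat.card K).factorization 3 ≤ 1 := by
      by_contra h
      push Not at h
      exact S.not9 ((pow_dvd_pow 3 h).trans ((Nat.ordProj_dvd _ 3).trans K.card_subgroup_dvd_card))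
    have hge := Nat.Prime.factorization_pos_of_dvd Nat.prime_three hne hd3
    rw [Nat.card_zpowers, Subgroup.orderOf_mk, hao, show (Nat.card K).factorization 3 = 1 by omega, pow_one])
  have hP3 : IsCyclic P3 := by
    show IsCyclic (Subgroup.zpowers (⟨(a : X), haK⟩ : K))
    infer_instance
  have h3min : (Nat.card K).minFac = 3 := by
    have h1 : (Nat.card K).minFac ≤ 3 := Nat.minFac_le_of_dvd (by norm_num) hd3
    have h2 := Nat.minFac_prime (fun e => by rw [e] at hd3; norm_num at hd3 : Nat.card K ≠ 1)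
    have h3 : (Nat.card K).minFac ≠ 2 := fun e => by
      have := Nat.minFac_dvd (Nat.card K)
      rw [e] at this
      exact Nat.not_even_iff_odd.2 hK2 (even_iff_two_dvd.2 this)
    have := h2.two_le
    omega
  have hnpc3 : HasNormalPComplement 3 K :=
    Fusion.hnpc_of_normalizer_le_centralizer P3 (hP3.normalizer_le_centralizer h3min)
  set F : Subgroup X := (pResidual 3 K).map K.subtype with hF
  haveI hFn : F.Normal := inferInstance
  have hFK : F ≤ K := Subgroup.map_subtype_le _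
  have hF3 : ¬ 3 ∣ Nat.card F := by
    rw [hF, Subgroup.card_subtype]
    intro h
    have := Nat.eq_one_of_dvd_coprimes (Fusion.hnpc_iff.1 hnpc3) h dvd_rfl
    norm_num at this
  have hpF : p ∈ F := by
    refine ⟨⟨p, hpK⟩, ?_, rfl⟩
    obtain ⟨m, hm⟩ := IsPGroup.iff_card.1 (Fusion.isPGroup_quotient_pResidual (p := 3) (G := K))
    refine (QuotientGroup.eq_one_iff _).1 ?_
    have h1 : orderOf ((⟨p, hpK⟩ : K) : K ⧸ pResidual 3 K) ∣ 5 := by
      have := orderOf_map_dvd (QuotientGroup.mk' (pResidual 3 K)) (⟨p, hpK⟩ : K)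
      rwa [Subgroup.orderOf_mk, S.p5] at this
    have h2 : orderOf ((⟨p, hpK⟩ : K) : K ⧸ pResidual 3 K) ∣ 3 ^ m := hm ▸ orderOf_dvd_natCard _
    exact orderOf_eq_one_iff.1 (Nat.eq_one_of_dvd_coprimes ((by norm_num : Nat.Coprime 5 3).pow_right m) h1 h2)
  have hinv := invert_of_fixfree (S.sqZ z S.zZt) (fun f hf => hFn.conj_mem f hf z) fun f hf hzf => by
    have hfo : Odd (orderOf f) := hK2.of_dvd_nat (Subgroup.orderOf_dvd_natCard K (hFK hf))
    rcases (Nat.dvd_prime Nat.prime_three).1 (S.cz_odd S.zZt hfo hzf) with e | e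
    · exact orderOf_eq_one_iff.1 e
    · exact absurd (e ▸ Subgroup.orderOf_dvd_natCard F hf) hF3
  have hFp : ∀ f ∈ F, f ∈ Subgroup.zpowers p := by
    intro f hf
    have e : Subgroup.zpowers p = Subgroup.centralizer ({p} : Set X) := Subgroup.eq_of_le_of_card_ge
      (Subgroup.zpowers_le.2 (mem_cent.2 (Commute.refl p))) (by rw [S.cardP, Nat.card_zpowers, S.p5])
    rw [e]
    exact mem_cent.2 (comm_of_invert hinv f hf p hpF)
  obtain ⟨k, hk⟩ := (mem_powers_iff_mem_zpowers (x := p)).2 (hFp _ (hFn.conj_mem p hpF (a : X)))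
  have hk' : p ^ k = (a : X) * p * (a : X)⁻¹ := hk
  have h3k : p ^ (k * k * k) = p := by
    rw [pow_mul, pow_mul, hk', conj_pow, hk', conj_pow, conj_pow, hk',
      show (a : X) * ((a : X) * ((a : X) * p * (a : X)⁻¹) * (a : X)⁻¹) * (a : X)⁻¹ =
        ((a : X) * a * a) * p * ((a : X) * a * a)⁻¹ by group,
      show (a : X) * a * a = 1 by
        have h := pow_orderOf_eq_one (a : X)
        rw [hao, pow_succ, pow_two] at h
        exact h]
    group
  have hk1 : p ^ k = p := by
    have h : p ^ (k * k * k) = p ^ 1 := h3k.trans (pow_one p).symm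
    rw [pow_eq_pow_iff_modEq, S.p5] at h
    have hk5 : k % 5 = 1 := by
      unfold Nat.ModEq at h
      rw [Nat.mul_mod, Nat.mul_mod k k] at h
      have := Nat.mod_lt k (by norm_num : 5 > 0)
      revert h this
      generalize k % 5 = q
      intros
      interval_cases q <;> omega
    rw [← pow_mod_orderOf, S.p5, hk5, pow_one]
  have hap : Commute (a : X) p := mul_inv_eq_iff_eq_mul.1 (hk'.symm.trans hk1)
  have := Subgroup.orderOf_dvd_natCard _ (mem_cent.2 hap)
  rw [S.cardP, hao] at this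
  norm_num at this

/-- the shape of a Sylow 2-subgroup -/
structure Shape (Zt : X → Prop) (z : X) (T : Sylow 2 X) (i j : X) (n : ℕ) : Prop where
  zT : z ∈ T
  iT : i ∈ T
  jT : j ∈ T
  i2 : orderOf i = 2
  j2 : orderOf j = 2
  iZ : ¬ Zt i
  jZ : ¬ Zt j
  conj : IsConj i j
  ord : orderOf (z * j) = n
  four : 4 ∣ n
  pow : ∃ e, n = 2 ^ e
  icen : ∀ t ∈ T, Commute i t
  ihalf : i = (z * j) ^ (n / 2)
  eq : (T : Subgroup X) = Subgroup.closure ({z, j} : Set X)
  cent : ∀ t ∈ T, Commute t z → t = 1 ∨ t = z ∨ t = i ∨ t = z * i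

theorem SevData.exists_shape : ∃ (T : Sylow 2 X) (i j : X) (n : ℕ), Shape Zt z T i j n := by
  classical
  haveI : Fact (Nat.Prime 2) := ⟨Nat.prime_two⟩
  haveI : Fact (Nat.Prime 5) := ⟨by norm_num⟩
  set Cz := Subgroup.centralizer ({z} : Set X) with hCz
  have hzo := S.orderZ S.zZt
  have hp1 : p ≠ 1 := fun e => by have := S.p5; rw [e, orderOf_one] at this; norm_num at this
  obtain ⟨T1, hT1⟩ := (IsPGroup.of_card (n := 1) (by
    rw [Nat.card_zpowers, Subgroup.orderOf_mk, hzo, pow_one]) :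
      IsPGroup 2 (Subgroup.zpowers (⟨z, mem_cent.2 (Commute.refl z)⟩ : Cz))).exists_le_sylow
  obtain ⟨T, hT⟩ := (T1.isPGroup'.map Cz.subtype).exists_le_sylow
  have hzT : z ∈ T := hT ⟨_, hT1 (Subgroup.mem_zpowers _), rfl⟩
  have hT14 : Nat.card (T1 : Subgroup Cz) = 4 := by
    rw [T1.card_eq_multiplicity, S.cardZ z S.zZt, show (12 : ℕ) = 2 ^ 2 * 3 from rfl,
      Nat.factorization_mul (by norm_num) (by norm_num), Finsupp.add_apply, Nat.prime_two.factorization_pow,
      Finsupp.single_eq_same, Nat.factorization_eq_zero_of_not_dvd (by norm_num : ¬ 2 ∣ 3), add_zero]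
    rfl
  set V : Subgroup X := (T : Subgroup X) ⊓ Cz with hV
  have hV4 : Nat.card V = 4 := by
    refine le_antisymm ?_ ?_
    · obtain ⟨m, hm⟩ := IsPGroup.iff_card.1 (T.isPGroup'.to_le (show V ≤ (T : Subgroup X) from inf_le_left))
      have hd := Subgroup.card_dvd_of_le (show V ≤ Cz from inf_le_right)
      rw [hm, S.cardZ z S.zZt] at hd
      rw [hm]
      by_contra h
      push Not at h
      have : 2 ^ 3 ∣ 12 := (pow_dvd_pow 2 (by
        by_contra h'
        push Not at h'
        interval_cases m <;> norm_num at h : 3 ≤ m)).trans hd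
      norm_num at this
    · have h := Subgroup.card_le_of_le (show (T1 : Subgroup Cz).map Cz.subtype ≤ V from
        le_inf hT (Subgroup.map_subtype_le _))
      rwa [Subgroup.card_subtype, hT14] at h
  -- at least eight
  obtain ⟨e, he⟩ := IsPGroup.iff_card.1 T.isPGroup'
  have hd1 : orderOf d = 4 := by
    refine orderOf_eq_prime_pow (p := 2) (n := 1) ?_ (by rw [show (2 : ℕ) ^ (1 + 1) = 4 from rfl]; exact S.d4)
    intro h
    rw [pow_one] at h
    have h4 : p ^ 4 = p := by
      calc p ^ 4 = (p ^ 2) ^ 2 := by rw [← pow_mul]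
        _ = (d * p * d⁻¹) ^ 2 := by rw [S.dp]
        _ = d * p ^ 2 * d⁻¹ := conj_pow
        _ = d * (d * p * d⁻¹) * d⁻¹ := by rw [S.dp]
        _ = d ^ 2 * p * (d ^ 2)⁻¹ := by rw [pow_two]; group
        _ = p := by rw [h]; group
    have h3 : p ^ 3 = 1 := by
      rw [pow_succ] at h4
      exact mul_eq_right.1 h4
    have := orderOf_dvd_of_pow_eq_one h3
    rw [S.p5] at this
    norm_num at this
  have h8 : 8 ∣ Nat.card (T : Subgroup X) := by
    rw [he]
    by_contra h
    have he2 : e ≤ 2 := by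
      by_contra h'
      exact h (show 2 ^ 3 ∣ 2 ^ e from pow_dvd_pow 2 (by omega))
    have hle : Nat.card (T : Subgroup X) = 4 := by
      refine le_antisymm ?_ (hV4 ▸ Subgroup.card_le_of_le inf_le_left)
      rw [he]
      exact Nat.pow_le_pow_right (by norm_num) he2
    let P : Sylow 2 X := Sylow.ofCard (Subgroup.zpowers d) (by
      rw [Nat.card_zpowers, hd1, ← T.card_eq_multiplicity, hle])
    haveI : IsCyclic (P : Subgroup X) := by
      show IsCyclic (Subgroup.zpowers d)
      infer_instance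
    exact S.no_npc (Fusion.DihedralFours.hnpc_two_cyclic P inferInstance)
  -- a central involution
  haveI : Nontrivial (T : Subgroup X) := (Finite.one_lt_card_iff_nontrivial).1 (by
    have := Nat.le_of_dvd Nat.card_pos h8; omega)
  haveI := T.isPGroup'.center_nontrivial
  obtain ⟨m, hm0, hm⟩ := (T.isPGroup'.to_subgroup (Subgroup.center (T : Subgroup X))).nontrivial_iff_card.1
    inferInstance
  obtain ⟨i0, hi0⟩ := exists_prime_orderOf_dvd_card' (G := Subgroup.center (T : Subgroup X)) 2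
    (hm ▸ dvd_pow_self 2 hm0.ne')
  set i : X := ((i0 : (T : Subgroup X)) : X) with hi
  have hio : orderOf i = 2 := by rw [hi, Subgroup.orderOf_coe, Subgroup.orderOf_coe, hi0]
  have hiT : i ∈ T := (i0 : (T : Subgroup X)).2
  have hicen : ∀ t ∈ T, Commute i t := fun t ht =>
    (congrArg Subtype.val (Subgroup.mem_center_iff.1 i0.2 ⟨t, ht⟩) : t * i = i * t).symm
  have hi2 : i * i = 1 := by rw [← pow_two, ← hio, pow_orderOf_eq_one]
  have hi1 : i ≠ 1 := fun e => by rw [e, orderOf_one] at hio; norm_num at hio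
  have hiZ : ¬ Zt i := fun h => by
    have hd := Subgroup.card_dvd_of_le (show (T : Subgroup X) ≤ Subgroup.centralizer ({i} : Set X) from
      fun t ht => mem_cent.2 (hicen t ht).symm)
    rw [S.cardZ i h] at hd
    have := h8.trans hd
    norm_num at this
  have hiz : i ≠ z := fun e => hiZ (e ▸ S.zZt)
  have hz2 := S.sqZ z S.zZt
  have hz1 := S.neZ z S.zZt
  have hzi : Commute z i := (hicen z hzT).symm
  have hcent : ∀ t ∈ T, Commute t z → t = 1 ∨ t = z ∨ t = i ∨ t = z * i := by
    intro t ht htz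
    by_contra hno
    push Not at hno
    obtain ⟨n1, n2, n3, n4⟩ := hno
    have hsub : ({1, z, i, z * i, t} : Set X) ⊆ (V : Set X) := by
      rintro a (rfl | rfl | rfl | rfl | rfl)
      exacts [one_mem V, ⟨hzT, mem_cent.2 (Commute.refl a)⟩, ⟨hiT, mem_cent.2 hzi.symm⟩,
        ⟨mul_mem hzT hiT, mem_cent.2 ((Commute.refl z).mul_left hzi.symm)⟩, ⟨ht, mem_cent.2 htz⟩]
    have h := Set.ncard_le_ncard hsub (Set.toFinite _)
    rw [← Nat.card_coe_set_eq (V : Set X), show Nat.card (V : Set X) = 4 from hV4] at h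
    have a1 : z * i ≠ 1 := fun e => hiz (mul_left_cancel (e.trans hz2.symm))
    have a2 : z * i ≠ z := fun e => hi1 (mul_eq_left.1 e)
    have a3 : z * i ≠ i := fun e => hz1 (mul_eq_right.1 e)
    rw [Set.ncard_insert_of_notMem (by simp [hz1.symm, hi1.symm, a1.symm, n1.symm]),
      Set.ncard_insert_of_notMem (by simp [hiz.symm, a2.symm, n2.symm]),
      Set.ncard_insert_of_notMem (by simp [a3.symm, n3.symm]), Set.ncard_pair n4.symm] at h
    omega
  haveI := T.isPGroup'.isNilpotent
  have hnormV : ∃ n ∈ T, n * z * n⁻¹ = z * i := by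
    have hlt : V.subgroupOf (T : Subgroup X) < ⊤ := by
      refine lt_top_iff_ne_top.2 fun h => ?_
      rw [Subgroup.subgroupOf_eq_top] at h
      have := Subgroup.card_le_of_le h
      have := Nat.le_of_dvd Nat.card_pos h8
      omega
    obtain ⟨n, hnN, hnV⟩ := SetLike.exists_of_lt (Group.normalizerCondition_of_isNilpotent _ hlt)
    have hm' : (n : X) * z * (n : X)⁻¹ ∈ V :=
      (Subgroup.mem_normalizer_iff.1 hnN ⟨z, hzT⟩).1 (show z ∈ V from ⟨hzT, mem_cent.2 (Commute.refl z)⟩)
    refine ⟨n, n.2, ?_⟩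
    rcases hcent _ hm'.1 (mem_cent.1 hm'.2) with e | e | e | e
    · exact absurd (conj_eq_one_iff.1 e) hz1
    · exact absurd (⟨n.2, mem_cent.2 (mul_inv_eq_iff_eq_mul.1 e)⟩ : (n : X) ∈ V) hnV
    · exact absurd (e ▸ S.conjZ (n : X) z S.zZt) hiZ
    · exact e
  have hziZ : Zt (z * i) := by
    obtain ⟨n, -, e⟩ := hnormV
    exact e ▸ S.conjZ n z S.zZt
  -- the central involution is not isolated
  obtain ⟨g, hgT, hgi⟩ : ∃ g : X, g * i * g⁻¹ ∈ T ∧ g * i * g⁻¹ ≠ i := by
    by_contra hno
    push Not at hno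
    have hstar := Char.zStar (Char.oddInvol_of_isolated_sylow hio hiT hno)
    set O := Cfsg.oddCore X with hO
    haveI hOn : O.Normal := Cfsg.pPrimeCore_normal 2 X
    have hOodd : Odd (Nat.card O) := Char.card_oddCore_odd X
    have hpO : p ∈ O := by
      by_contra hp
      haveI := Fintype.ofFinite O
      let σ : Equiv.Perm O :=
        { toFun := fun o => ⟨i * (o : X) * i⁻¹ * (i * p * i⁻¹ * p⁻¹), mul_mem (hOn.conj_mem o o.2 i) (hstar p)⟩
          invFun := fun o => ⟨i * (o : X) * i⁻¹ * (i * p * i⁻¹ * p⁻¹), mul_mem (hOn.conj_mem o o.2 i) (hstar p)⟩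
          left_inv := fun o => Subtype.ext (by
            show i * (i * (o : X) * i⁻¹ * (i * p * i⁻¹ * p⁻¹)) * i⁻¹ * (i * p * i⁻¹ * p⁻¹) = o
            rw [show i * (i * (o : X) * i⁻¹ * (i * p * i⁻¹ * p⁻¹)) * i⁻¹ * (i * p * i⁻¹ * p⁻¹) =
              (i * i) * ((o : X) * p) * (i * i)⁻¹ * p⁻¹ by group, hi2]
            group)
          right_inv := fun o => Subtype.ext (by
            show i * (i * (o : X) * i⁻¹ * (i * p * i⁻¹ * p⁻¹)) * i⁻¹ * (i * p * i⁻¹ * p⁻¹) = o
            rw [show i * (i * (o : X) * i⁻¹ * (i * p * i⁻¹ * p⁻¹)) * i⁻¹ * (i * p * i⁻¹ * p⁻¹) =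
              (i * i) * ((o : X) * p) * (i * i)⁻¹ * p⁻¹ by group, hi2]
            group) }
      obtain ⟨o, ho⟩ := Equiv.Perm.exists_fixed_point_of_prime (p := 2) (n := 1) (σ := σ)
        (by rw [← Nat.card_eq_fintype_card]; exact fun h => Nat.not_even_iff_odd.2 hOodd (even_iff_two_dvd.2 h))
        (by rw [pow_one, pow_two]; exact Equiv.ext σ.left_inv)
      set y := (o : X) * p with hy
      have hyi : Commute i y := by
        have h : i * (o : X) * i⁻¹ * (i * p * i⁻¹ * p⁻¹) = o := congrArg Subtype.val ho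
        refine mul_inv_eq_iff_eq_mul.1 ?_
        calc i * y * i⁻¹ = i * (o : X) * i⁻¹ * (i * p * i⁻¹ * p⁻¹) * p := by rw [hy]; group
          _ = y := by rw [h]
      have hy5 : 5 ∣ orderOf y := by
        have h1 : orderOf (y : X ⧸ O) ∣ orderOf y := orderOf_map_dvd (QuotientGroup.mk' O) y
        have e : (y : X ⧸ O) = (p : X ⧸ O) := by
          rw [hy, QuotientGroup.mk_mul, (QuotientGroup.eq_one_iff _).2 o.2, one_mul]
        rw [e, orderOf_eq_prime (p := 5) (x := (p : X ⧸ O))
          (by rw [← QuotientGroup.mk_pow, ← S.p5, pow_orderOf_eq_one]; rfl)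
          (fun h => hp ((QuotientGroup.eq_one_iff _).1 h))] at h1
        exact h1
      refine S.not5_cent hi2 hi1 (hy5.trans ?_)
      exact Subgroup.orderOf_dvd_natCard _ (mem_cent.2 hyi.symm)
    have h5O : 5 ∣ Nat.card O := S.p5 ▸ Subgroup.orderOf_dvd_natCard O hpO
    let P5 : Sylow 5 O := Sylow.ofCard (Subgroup.zpowers (⟨p, hpO⟩ : O)) (by
      have hle : (Nat.card O).factorization 5 ≤ 1 := by
        by_contra h
        push Not at h
        exact S.n25 ((pow_dvd_pow 5 h).trans ((Nat.ordProj_dvd _ 5).trans O.card_subgroup_dvd_card))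
      have hge := Nat.Prime.factorization_pos_of_dvd (by norm_num : Nat.Prime 5) Nat.card_pos.ne' h5O
      rw [Nat.card_zpowers, Subgroup.orderOf_mk, S.p5, show (Nat.card O).factorization 5 = 1 by omega, pow_one])
    have htop := P5.normalizer_sup_eq_top
    rw [show (P5 : Subgroup O).map O.subtype = Subgroup.zpowers p from MonoidHom.map_zpowers O.subtype ⟨p, hpO⟩,
      sup_comm] at htop
    set NP := Subgroup.normalizer (Subgroup.zpowers p : Set X) with hNP
    have hN20 : Nat.card NP ∣ 20 := by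
      have hcc : Subgroup.centralizer ((Subgroup.zpowers p : Subgroup X) : Set X) =
          Subgroup.centralizer ({p} : Set X) := by
        rw [Subgroup.zpowers_eq_closure, Subgroup.centralizer_closure]
      have hrel := Char.SmallOrderGraph.relIndex_centralizer_dvd (Subgroup.zpowers p) NP (q := 5) (by norm_num)
        (by rw [Nat.card_zpowers, S.p5]) le_rfl
      have hle : Subgroup.centralizer ((Subgroup.zpowers p : Subgroup X) : Set X) ≤ NP :=
        Subgroup.centralizer_le_normalizer _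
      rw [← Subgroup.card_mul_index ((Subgroup.centralizer ((Subgroup.zpowers p : Subgroup X) : Set X)).subgroupOf NP),
        Nat.card_congr (Subgroup.subgroupOfEquivOfLe hle).toEquiv, hcc, S.cardP, show (20 : ℕ) = 5 * 4 from rfl]
      rw [hcc] at hrel
      exact Nat.mul_dvd_mul_left 5 hrel
    have hc := Solv.card_sup_mul_card_inf O NP
    rw [htop, Subgroup.card_top] at hc
    have h8X : 8 ∣ 20 * Nat.card O := by
      refine ((h8.trans (T : Subgroup X).card_subgroup_dvd_card).trans (Dvd.intro _ hc)).trans ?_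
      rw [mul_comm]
      exact Nat.mul_dvd_mul_right hN20 _
    have h2 : 8 ∣ 20 := (((Nat.coprime_two_left.2 hOodd).pow_left 3).dvd_mul_right).1 (by simpa using h8X)
    norm_num at h2
  set j := g * i * g⁻¹ with hj
  have hjo : orderOf j = 2 := by rw [hj, show g * i * g⁻¹ = MulAut.conj g i by simp, MulEquiv.orderOf_eq, hio]
  have hjZ : ¬ Zt j := fun h => hiZ (by
    have := S.conjZ g⁻¹ j h
    rwa [hj, show g⁻¹ * (g * i * g⁻¹) * g⁻¹⁻¹ = i by group] at this)
  have hzj : z ≠ j := fun e => hjZ (e ▸ S.zZt)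
  have hjz : ¬ Commute j z := fun h => by
    rcases hcent j hgT h with e | e | e | e
    · rw [e, orderOf_one] at hjo; norm_num at hjo
    · exact hzj e.symm
    · exact hgi e
    · exact hjZ (e ▸ hziZ)
  clear_value j
  set r := z * j with hr
  set n := orderOf r with hn
  have hrT : r ∈ T := mul_mem hzT hgT
  obtain ⟨en, hen⟩ : ∃ l, n = 2 ^ l := by
    obtain ⟨k, hk⟩ := T.isPGroup' ⟨r, hrT⟩
    obtain ⟨l, -, hl⟩ := (Nat.dvd_prime_pow Nat.prime_two).1
      (orderOf_dvd_of_pow_eq_one (congrArg Subtype.val hk : r ^ 2 ^ k = 1))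
    exact ⟨l, hl⟩
  have hen2 : 2 ≤ en := by
    by_contra h
    have h2 : r ^ 2 = 1 := by
      refine orderOf_dvd_iff_pow_eq_one.1 ?_
      rw [← hn, hen]
      interval_cases en <;> norm_num
    apply hjz
    have hji : j⁻¹ = j := Fusion.invol_inv hjo
    have hzi' : z⁻¹ = z := Fusion.invol_inv hzo
    rw [pow_two] at h2
    have h3 := inv_eq_of_mul_eq_one_right h2
    rw [hr, mul_inv_rev, hji, hzi'] at h3
    exact h3
  have h4n : 4 ∣ n := by rw [hen]; exact (show 2 ^ 2 ∣ 2 ^ en from pow_dvd_pow 2 hen2)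
  obtain ⟨hco, hcz, hcj⟩ := S0209.result z j hzo hjo (by rw [← hr, ← hn]; exact even_iff_two_dvd.2 (Dvd.dvd.trans (by norm_num) h4n))
  set c0 := (z * j) ^ (orderOf (z * j) / 2) with hc0
  have hc0T : c0 ∈ T := pow_mem hrT _
  set D' := Subgroup.closure ({z, j} : Set X) with hD'
  have hzD : z ∈ D' := Subgroup.subset_closure (by simp)
  have hjD : j ∈ D' := Subgroup.subset_closure (by simp)
  have hc0D : c0 ∈ D' := pow_mem (mul_mem hzD hjD) _
  have hc0z : c0 ≠ z := fun e => hjz (e ▸ hcj).symm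
  have hc0v : c0 = i ∨ c0 = z * i := by
    rcases hcent c0 hc0T hcz with e | e | e | e
    · rw [e, orderOf_one] at hco; norm_num at hco
    · exact absurd e hc0z
    · exact Or.inl e
    · exact Or.inr e
  have hiD : i ∈ D' := by
    rcases hc0v with e | e
    · exact e ▸ hc0D
    · have := mul_mem hzD hc0D
      rwa [e, ← mul_assoc, hz2, one_mul] at this
  have hDT : D' ≤ (T : Subgroup X) := (Subgroup.closure_le _).2 (by rintro a (rfl | rfl) <;> assumption)
  have hjinv : j * r * j⁻¹ = r⁻¹ := by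
    rw [hr, mul_inv_rev, Fusion.invol_inv hjo, Fusion.invol_inv hzo,
      show j * (z * j) * j = j * z * (j * j) by group, Fusion.invol_mul_self hjo, mul_one]
  have hTD : (T : Subgroup X) = D' := by
    refine le_antisymm ?_ hDT
    by_contra hno
    have hlt : D'.subgroupOf (T : Subgroup X) < ⊤ := lt_top_iff_ne_top.2 fun h => hno (Subgroup.subgroupOf_eq_top.1 h)
    obtain ⟨⟨m, hmT⟩, hmN, hmD⟩ := SetLike.exists_of_lt (Group.normalizerCondition_of_isNilpotent _ hlt)
    have hmD' : m ∉ D' := hmD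
    have hnorm : ∀ a ∈ D', m * a * m⁻¹ ∈ D' ∧ m⁻¹ * a * m ∈ D' := fun a ha => by
      refine ⟨(Subgroup.mem_normalizer_iff.1 hmN ⟨a, hDT ha⟩).1 ha, ?_⟩
      have h := (Subgroup.mem_normalizer_iff.1 (inv_mem hmN) ⟨a, hDT ha⟩).1 ha
      change m⁻¹ * a * m⁻¹⁻¹ ∈ D' at h
      rwa [inv_inv] at h
    set u := m * z * m⁻¹ with hu
    have huZ : Zt u := S.conjZ m z S.zZt
    have huD : u ∈ D' := (hnorm z hzD).1
    rcases (Fusion.mem_closure_pair_iff hzo hjo u).1 huD with hur | hur
    · -- a rotation would be central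
      obtain ⟨l, hl⟩ := hur
      have hl' : r ^ l = u := hl
      have hju : Commute j u := by
        refine mul_inv_eq_iff_eq_mul.1 ?_
        rw [← hl', ← conj_zpow, hjinv, inv_zpow, hl', Fusion.invol_inv (S.orderZ huZ)]
      have hzu : Commute z u := by
        have h := ((Commute.refl r).zpow_right l)
        rw [hl'] at h
        have h2 := h.mul_left hju
        rwa [hr, mul_assoc, Fusion.invol_mul_self hjo, mul_one] at h2
      have hall : ∀ a ∈ D', Commute a u := fun a ha => by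
        refine (mem_cent).1 ((Subgroup.closure_le _).2 ?_ ha)
        rintro b (rfl | rfl)
        exacts [mem_cent.2 hzu, mem_cent.2 hju]
      apply hjz
      have h := (Commute.conj_iff m⁻¹).2 (hall _ (hnorm j hjD).1)
      rw [inv_inv, show m⁻¹ * (m * j * m⁻¹) * m = j by group, hu, show m⁻¹ * (m * z * m⁻¹) * m = z by group] at h
      exact h
    · obtain ⟨l, hl⟩ := hur
      have hl' : r ^ l = z * u := hl
      have hul : u = z * r ^ l := by rw [hl', ← mul_assoc, hz2, one_mul]
      have hzr : ∀ k : ℤ, r ^ k * z * (r ^ k)⁻¹ = z * r ^ (-(2 * k)) := fun k => by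
        have h := Fusion.invol_conj_zpow hzo hjo k
        rw [← hr, Fusion.invol_inv hzo] at h
        have e : r ^ k * z = z * r ^ (-k) := by
          rw [← h, ← mul_assoc, ← mul_assoc, hz2, one_mul]
        rw [e, mul_assoc, ← zpow_neg, ← zpow_add]
        congr 2; ring
      rcases Int.even_or_odd l with ⟨k, hk⟩ | ⟨k, hk⟩
      · apply hmD'
        have hconj : r ^ (-k) * z * (r ^ (-k))⁻¹ = u := by rw [hzr, hul, hk]; congr 2; ring
        have hcm : Commute ((r ^ (-k))⁻¹ * m) z := by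
          refine mul_inv_eq_iff_eq_mul.1 ?_
          rw [show (r ^ (-k))⁻¹ * m * z * ((r ^ (-k))⁻¹ * m)⁻¹ = (r ^ (-k))⁻¹ * (m * z * m⁻¹) * r ^ (-k) by group,
            ← hu, ← hconj]
          group
        have hrD : r ^ (-k) ∈ D' := zpow_mem (mul_mem hzD hjD) _
        have hin : (r ^ (-k))⁻¹ * m ∈ D' := by
          rcases hcent _ (mul_mem (inv_mem (zpow_mem hrT _)) hmT) hcm with e | e | e | e <;> rw [e]
          exacts [one_mem _, hzD, hiD, mul_mem hzD hiD]
        have := mul_mem hrD hin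
        rwa [mul_inv_cancel_left] at this
      · apply hjZ
        have hjr : j = z * r ^ (1 : ℤ) := by rw [zpow_one, hr, ← mul_assoc, hz2, one_mul]
        have e : r ^ k * u * (r ^ k)⁻¹ = j := by
          rw [hul, show r ^ k * (z * r ^ l) * (r ^ k)⁻¹ = (r ^ k * z * (r ^ k)⁻¹) * r ^ l by
            rw [mul_assoc (r ^ k * z) (r ^ k)⁻¹, ← zpow_neg, ← zpow_add, mul_assoc (r ^ k) z, mul_assoc, mul_assoc,
              ← zpow_add]
            congr 3; ring, hzr, mul_assoc, ← zpow_add, hjr]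
          congr 2
          rw [hk]; ring
        exact e ▸ S.conjZ _ u huZ
  have hc0i : c0 = i := by
    refine hc0v.resolve_right fun e => hjz ?_
    have h2 : Commute (c0 * i) j := hcj.mul_left (hicen j hgT)
    rw [e, mul_assoc, hi2, mul_one] at h2
    exact h2.symm
  refine ⟨T, i, j, n, hzT, hiT, hgT, hio, hjo, hiZ, hjZ, isConj_iff.2 ⟨g, hj.symm⟩, rfl, h4n, ⟨en, hen⟩, hicen, ?_, hTD, hcent⟩
  exact hc0i.symm

end Cfsg.Agent.Spor.SevenX
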