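import Cfsg.Agent.Lib.Spor.JFourLoc.SevX.Dihedral
import Cfsg.Agent.Lib.Char.BSW.Setup
import Cfsg.Agent.S0514

/-!
The centraliser of the central involution inside the subgroup of index two.
-/

set_option autoImplicit false
set_option linter.unusedSectionVars false
set_option linter.style.haveILetI false

namespace Cfsg.Agent.Spor.SevenX

open Cfsg

universe u

variable {X : Type u} [Group X] [Finite X] {Zt : X → Prop} {z p d i j : X} {n : ℕ} {T : Sylow 2 X} {X0 : Subgroup X}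

/-- what is known about the centraliser of the central involution -/
structure Cent (z : X) (i j : X) (X0 : Subgroup X) (O : Subgroup X) : Prop where
  odd : Odd (Nat.card O)
  comm : ∀ a ∈ O, ∀ b ∈ O, Commute a b
  icen : ∀ a ∈ O, Commute a i
  decomp : ∀ g ∈ X0, Commute g i →
    ∃ o ∈ O, ∃ l : ℤ, (Even l ∧ g = o * (z * j) ^ l) ∨ (Odd l ∧ g = o * (z * (z * j) ^ l))
  mem : ∀ g, Commute g i → Odd (orderOf g) → g ∈ O
  leX : O ≤ X0
  jinv : ∀ a ∈ O, j * a * j⁻¹ = a⁻¹
  zinv : ∀ a ∈ O, z * a * z⁻¹ = a⁻¹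
  free : ∀ c ∈ O, c ≠ 1 → ∀ v ∈ X0, v * v = 1 → v ≠ 1 → Commute v i → Commute v c → v = i
  ti : ∀ g ∈ X0, ∀ c ∈ O, c ≠ 1 → g * c * g⁻¹ ∈ O → Commute g i

variable (H : Shape Zt z T i j n) (S : SevData Zt z p d) (F : Half z T i j X0) (hZ : ∀ u, Zt u → u ∉ X0 ∧ IsConj z u)
include H S F hZ

theorem Shape.zrot (k : ℤ) : Zt (z * (z * j) ^ (2 * k)) := by
  have e := H.conj_refl S (-k) 0
  rw [zpow_zero, mul_one] at e
  have h := S.conjZ ((z * j) ^ (-k)) z S.zZt
  rw [e] at h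
  rwa [show (2 : ℤ) * k = 0 - 2 * (-k) by ring]

theorem Shape.exists_cent : ∃ O : Subgroup X, Cent z i j X0 O := by
  classical
  haveI : Fact (Nat.Prime 2) := ⟨Nat.prime_two⟩
  haveI hX0n : X0.Normal := Subgroup.normal_of_index_eq_two F.idx
  have hzjne : z ≠ j := fun e => H.jZ (e ▸ S.zZt)
  obtain ⟨eD⟩ := Fusion.closure_pair_equiv_dihedral (S.orderZ S.zZt) H.j2 hzjne
  obtain ⟨N, hN, hNodd, k, hk⟩ := S0514.result T (orderOf (z * j)) (by
      rw [H.ord]; obtain ⟨c, hc⟩ := H.four; have := orderOf_pos (z * j); rw [H.ord] at this; omega)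
    ⟨(MulEquiv.subgroupCongr H.eq).trans eD⟩ i H.i2
  set O := N.map (Subgroup.centralizer ({i} : Set X)).subtype with hO
  have hOodd : Odd (Nat.card O) := by rw [hO, Subgroup.card_subtype]; exact hNodd
  have hOi : ∀ a ∈ O, Commute a i := fun a ha => mem_cent.1 (Subgroup.map_subtype_le _ ha)
  have hoddO : ∀ a ∈ O, Odd (orderOf a) := fun a ha => hOodd.of_dvd_nat (Subgroup.orderOf_dvd_natCard O ha)
  have hOX : O ≤ X0 := fun a ha => F.odd a (hoddO a ha)
  have hmem : ∀ g, Commute g i → Odd (orderOf g) → g ∈ O := by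
    intro g hg hgo
    refine ⟨⟨g, mem_cent.2 hg⟩, (QuotientGroup.eq_one_iff _).1 ?_, rfl⟩
    haveI := hN
    have h1 := orderOf_map_dvd (QuotientGroup.mk' N) (⟨g, mem_cent.2 hg⟩ : Subgroup.centralizer ({i} : Set X))
    rw [Subgroup.orderOf_mk] at h1
    have h2 : orderOf ((⟨g, mem_cent.2 hg⟩ : Subgroup.centralizer ({i} : Set X)) : ↥(Subgroup.centralizer ({i} : Set X)) ⧸ N) ∣ 2 ^ k := by
      rw [← hk, Subgroup.index_eq_card]; exact orderOf_dvd_natCard _
    exact orderOf_eq_one_iff.1 (Nat.eq_one_of_dvd_coprimes ((Nat.coprime_two_right.2 hgo).pow_right k) h1 h2)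
  have hnormal : ∀ g, Commute g i → ∀ a ∈ O, g * a * g⁻¹ ∈ O := by
    rintro g hg _ ⟨a, ha, rfl⟩
    exact ⟨_, hN.conj_mem a ha ⟨g, mem_cent.2 hg⟩, rfl⟩
  have hTC : (T : Subgroup X) ≤ Subgroup.centralizer ({i} : Set X) := fun t ht => mem_cent.2 (H.icen t ht).symm
  have htop : N ⊔ (T : Subgroup X).subgroupOf (Subgroup.centralizer ({i} : Set X)) = ⊤ := by
    have h1 : (N ⊔ (T : Subgroup X).subgroupOf (Subgroup.centralizer ({i} : Set X))).index ∣ 2 ^ k := hk ▸ Subgroup.index_dvd_of_le le_sup_left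
    have h2 : (N ⊔ (T : Subgroup X).subgroupOf (Subgroup.centralizer ({i} : Set X))).index ∣ (T : Subgroup X).index :=
      (Subgroup.index_dvd_of_le le_sup_right).trans (Dvd.intro _ (Subgroup.relIndex_mul_index hTC))
    refine Subgroup.index_eq_one.1 (Nat.eq_one_of_dvd_coprimes (Nat.Coprime.pow_left k ?_) h1 h2)
    exact Nat.prime_two.coprime_iff_not_dvd.2 T.not_dvd_index
  have hdecT : ∀ g, Commute g i → ∃ o ∈ O, ∃ t ∈ T, g = o * t := by
    intro g hg
    haveI := hN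
    obtain ⟨a, ha, b, hb, e⟩ := Subgroup.mem_sup_of_normal_left.1 (htop ▸ Subgroup.mem_top (⟨g, mem_cent.2 hg⟩ : Subgroup.centralizer ({i} : Set X)))
    exact ⟨(a : X), ⟨a, ha, rfl⟩, (b : X), hb, (congrArg Subtype.val e).symm⟩
  have hOT : ∀ a ∈ O, a ∈ (T : Subgroup X) → a = 1 := fun a ha haT => by
    obtain ⟨m, hm⟩ := T.isPGroup' ⟨a, haT⟩
    have h := pow_gcd_eq_one.2 ⟨(congrArg Subtype.val hm : a ^ 2 ^ m = 1), pow_orderOf_eq_one a⟩
    rwa [((Nat.coprime_two_left.2 (hoddO a ha)).pow_left m).gcd_eq_one, pow_one] at h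
  have hdec : ∀ g ∈ X0, Commute g i →
      ∃ o ∈ O, ∃ l : ℤ, (Even l ∧ g = o * (z * j) ^ l) ∨ (Odd l ∧ g = o * (z * (z * j) ^ l)) := by
    intro g hg0 hg
    obtain ⟨o, ho, t, ht, rfl⟩ := hdecT g hg
    have ht0 : t ∈ X0 := (X0.mul_mem_cancel_left (hOX ho)).1 hg0
    obtain ⟨l, hl | hl⟩ := H.form S ht
    · exact ⟨o, ho, l, Or.inl ⟨(F.rot l).1 (hl ▸ ht0), by rw [hl]⟩⟩
    · refine ⟨o, ho, l, Or.inr ⟨?_, by rw [hl]⟩⟩
      by_contra ho'
      rw [hl] at ht0
      exact F.zn ((X0.mul_mem_cancel_right ((F.rot l).2 (Int.not_odd_iff_even.1 ho'))).1 ht0)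
  -- no element of order three
  have hnot3 : ¬ 3 ∣ Nat.card O := fun h => S.not3_cent H.ii H.i_ne H.iZ
    (h.trans (Subgroup.card_dvd_of_le (fun a ha => mem_cent.2 (hOi a ha))))
  have hc3 : ∀ c ∈ O, c ≠ 1 → ¬ 3 ∣ Nat.card (Subgroup.centralizer ({c} : Set X)) := fun c hc c1 h => by
    haveI : Fact (Nat.Prime 3) := ⟨Nat.prime_three⟩
    obtain ⟨b, hb⟩ := exists_prime_orderOf_dvd_card' (G := Subgroup.centralizer ({c} : Set X)) 3 h
    have h6 := (S.three (b : X) (by rw [Subgroup.orderOf_coe, hb])).1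
    have hd := Subgroup.orderOf_dvd_natCard _
      (mem_cent.2 (mem_cent.1 b.2).symm : c ∈ Subgroup.centralizer ({(b : X)} : Set X))
    rw [h6] at hd
    have h3 : orderOf c ∣ 3 := (Nat.Coprime.dvd_mul_left (Nat.coprime_two_right.2 (hoddO c hc))).1
      (show orderOf c ∣ 2 * 3 from hd)
    rcases (Nat.dvd_prime Nat.prime_three).1 h3 with e | e
    · exact c1 (orderOf_eq_one_iff.1 e)
    · exact hnot3 (e ▸ Subgroup.orderOf_dvd_natCard O hc)
  have hfix : ∀ u, Zt u → ∀ a ∈ O, Commute u a → a = 1 := fun u hu a ha h => by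
    rcases (Nat.dvd_prime Nat.prime_three).1 (S.cz_odd hu (hoddO a ha) h) with e | e
    · exact orderOf_eq_one_iff.1 e
    · exact absurd (e ▸ Subgroup.orderOf_dvd_natCard O ha) hnot3
  have hinvZ : ∀ u, Zt u → Commute u i → ∀ a ∈ O, u * a * u⁻¹ = a⁻¹ := fun u hu hui =>
    invert_of_fixfree (S.sqZ u hu) (hnormal u hui) (hfix u hu)
  have hzi : Commute z i := (H.icen z H.zT).symm
  have hzinv := hinvZ z S.zZt hzi
  have hab := comm_of_invert hzinv
  have hreven : ∀ l : ℤ, Even l → ∀ a ∈ O, Commute ((z * j) ^ l) a := by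
    rintro l ⟨m, rfl⟩ a ha
    have h := hinvZ _ (H.zrot S F hZ m) (H.icen _ (mul_mem H.zT (zpow_mem (mul_mem H.zT H.jT) _))).symm a ha
    rw [← two_mul]
    refine mul_inv_eq_iff_eq_mul.1 ?_
    calc (z * j) ^ (2 * m) * a * ((z * j) ^ (2 * m))⁻¹
        = z⁻¹ * (z * (z * j) ^ (2 * m) * a * (z * (z * j) ^ (2 * m))⁻¹) * z := by group
      _ = z⁻¹ * (z * a * z⁻¹) * z := by rw [h, hzinv a ha]
      _ = a := by group
  -- involutions commuting with an element inverted by a special one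
  have huniq : ∀ u, Zt u → ∀ c ∈ O, c ≠ 1 → u * c * u⁻¹ = c⁻¹ → ∀ w w' : X, w * w = 1 → w ≠ 1 → w' * w' = 1 →
      w' ≠ 1 → Commute w u → Commute w c → Commute w' u → Commute w' c → w = w' := by
    intro u hu c hc c1 huc w w' hw hw1 hw' hw1' hwu hwc hwu' hwc'
    set U := Subgroup.centralizer ({u} : Set X) ⊓ Subgroup.centralizer ({c} : Set X) with hU
    have huU : u ∉ U := fun h => by
      have h' : Commute u c := mem_cent.1 h.2
      exact c1 (hfix u hu c hc h')
    have hd12 : Nat.card U ∣ 12 := S.cardZ u hu ▸ Subgroup.card_dvd_of_le inf_le_left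
    have h3U : ¬ 3 ∣ Nat.card U := fun h => hc3 c hc c1 (h.trans (Subgroup.card_dvd_of_le inf_le_right))
    have hU4 : Nat.card U ∣ 4 := (Nat.Coprime.dvd_mul_right
      (Nat.Prime.coprime_iff_not_dvd Nat.prime_three |>.2 h3U).symm).1 (show Nat.card U ∣ 4 * 3 from hd12)
    by_contra hne
    have hmw : w ∈ U := ⟨mem_cent.2 hwu, mem_cent.2 hwc⟩
    have hmw' : w' ∈ U := ⟨mem_cent.2 hwu', mem_cent.2 hwc'⟩
    have h3le : 3 ≤ Nat.card U := by
      have hsub : ({1, w, w'} : Set X) ⊆ (U : Set X) := by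
        rintro a (rfl | rfl | rfl)
        exacts [one_mem U, hmw, hmw']
      have h := Set.ncard_le_ncard hsub (Set.toFinite _)
      rw [Set.ncard_insert_of_notMem (by simp [hw1.symm, hw1'.symm]), Set.ncard_pair hne, ← Nat.card_coe_set_eq] at h
      exact h
    have hUeq : Nat.card U = 4 := by
      have := Nat.le_of_dvd (by norm_num) hU4
      rcases (show Nat.card U = 3 ∨ Nat.card U = 4 by omega) with e | e
      · rw [e] at hU4; norm_num at hU4
      · exact e
    have hcom : ∀ a ∈ U, Commute a u := fun a ha => mem_cent.1 ha.1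
    have hp : IsPGroup 2 U := IsPGroup.of_card (n := 2) hUeq
    have hpu : IsPGroup 2 (Subgroup.zpowers u) := IsPGroup.of_card (n := 1) (by rw [Nat.card_zpowers, S.orderZ hu, pow_one])
    have hsup : IsPGroup 2 (U ⊔ Subgroup.zpowers u : Subgroup X) :=
      IsPGroup.to_sup_of_normal_left' hp hpu (Subgroup.zpowers_le.2 (Subgroup.mem_normalizer_iff.2 fun a =>
        ⟨fun ha => by rw [← (hcom a ha).eq, mul_inv_cancel_right]; exact ha, fun ha => by
          have e : a = u⁻¹ * (u * a * u⁻¹) * u := by group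
          rw [e, mul_assoc, (hcom _ ha).eq, inv_mul_cancel_left]; exact ha⟩))
    obtain ⟨m, hm⟩ := IsPGroup.iff_card.1 hsup
    have hlt : U < U ⊔ Subgroup.zpowers u := lt_of_le_of_ne le_sup_left fun e =>
      huU (e ▸ Subgroup.mem_sup_right (Subgroup.mem_zpowers u))
    have hgt : 4 < Nat.card (U ⊔ Subgroup.zpowers u : Subgroup X) := by
      have h1 := Subgroup.card_le_of_le hlt.le
      rw [hUeq] at h1
      refine lt_of_le_of_ne h1 fun e => hlt.ne (Subgroup.eq_of_le_of_card_ge hlt.le ?_)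
      rw [hUeq]; exact e.symm.le
    have hd : 2 ^ m ∣ 12 := by
      rw [← hm, ← S.cardZ u hu]
      exact Subgroup.card_dvd_of_le (sup_le inf_le_left (Subgroup.zpowers_le.2 (mem_cent.2 (Commute.refl u))))
    rw [hm] at hgt
    rcases m with _ | _ | _ | m
    · norm_num at hgt
    · norm_num at hgt
    · norm_num at hgt
    · have : 2 ^ 3 ∣ 12 := (pow_dvd_pow 2 (by omega)).trans hd
      norm_num at this
  -- the part of the Sylow subgroup
  have hrelT : (T : Subgroup X).index = ((T : Subgroup X) ⊓ X0).relIndex X0 := by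
    have h2 : X0.relIndex (T : Subgroup X) = 2 := by
      show (X0.subgroupOf (T : Subgroup X)).index = 2
      rw [Subgroup.index_eq_two_iff]
      refine ⟨⟨z, H.zT⟩, fun b => ?_⟩
      simp only [Subgroup.mem_subgroupOf, Subgroup.coe_mul]
      by_cases hb : (b : X) ∈ X0
      · exact Or.inr ⟨hb, fun h => F.zn ((X0.mul_mem_cancel_left hb).1 h)⟩
      · exact Or.inl ⟨(Subgroup.mul_mem_iff_of_index_two F.idx).2 (iff_of_false hb F.zn), hb⟩
    have e1 := Subgroup.relIndex_mul_index (inf_le_left : (T : Subgroup X) ⊓ X0 ≤ T)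
    have e2 := Subgroup.relIndex_mul_index (inf_le_right : (T : Subgroup X) ⊓ X0 ≤ X0)
    rw [Subgroup.inf_relIndex_left, h2] at e1
    rw [F.idx] at e2
    omega
  -- the reflection inverts
  have hjfree : ∀ c ∈ O, Commute j c → c = 1 := by
    intro c hc hjc
    by_contra c1
    obtain ⟨g, hg⟩ := isConj_iff.1 H.conj
    set y := g * z * g⁻¹ with hy
    have hyZ : Zt y := S.conjZ g z S.zZt
    have hyj : Commute y j := hg ▸ (Commute.conj_iff g).2 hzi
    have hyc : y * c * y⁻¹ = c⁻¹ := by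
      have hm : g⁻¹ * c * g ∈ O := by
        refine hmem _ ?_ ?_
        · have := (Commute.conj_iff g⁻¹).2 hjc.symm
          rwa [inv_inv, ← hg, show g⁻¹ * (g * i * g⁻¹) * g = i by group] at this
        · rw [show g⁻¹ * c * g = MulAut.conj g⁻¹ c by simp [mul_assoc], MulEquiv.orderOf_eq]; exact hoddO c hc
      calc y * c * y⁻¹ = g * (z * (g⁻¹ * c * g) * z⁻¹) * g⁻¹ := by rw [hy]; group
        _ = c⁻¹ := by rw [hzinv _ hm]; group
    have hyi0 : y ∉ X0 := (hZ y hyZ).1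
    set M := X0 ⊓ Subgroup.centralizer ({c} : Set X) with hM
    have hT0M : (T : Subgroup X) ⊓ X0 ≤ M := by
      rintro t ⟨ht, ht0⟩
      refine ⟨ht0, mem_cent.2 ?_⟩
      obtain ⟨l, hl | hl⟩ := H.form S ht
      · exact hl ▸ hreven l ((F.rot l).1 (hl ▸ ht0)) c hc
      · have hl' : t = j * (z * j) ^ (l - 1) := by
          rw [hl]
          conv_rhs => arg 1; rw [H.j_eq S]
          rw [mul_assoc, ← zpow_add]; congr 2; ring
        rw [hl'] at ht0 ⊢
        exact hjc.mul_left (hreven _ ((F.rot _).1 ((X0.mul_mem_cancel_left F.jX).1 ht0)) c hc)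
    have hTp : IsPGroup 2 (((T : Subgroup X) ⊓ X0).subgroupOf M) :=
      (T.isPGroup'.to_le inf_le_left).comap_of_injective M.subtype M.subtype_injective
    have hTidx : ¬ 2 ∣ (((T : Subgroup X) ⊓ X0).subgroupOf M).index := fun h => T.not_dvd_index (by
      rw [hrelT, ← Subgroup.relIndex_mul_relIndex _ _ _ hT0M inf_le_left]
      exact Dvd.dvd.mul_right h _)
    let P : Sylow 2 M := hTp.toSylow hTidx
    have hmemP : ∀ v : M, v ∈ P ↔ (v : X) ∈ T := fun v => by
      show v ∈ ((T : Subgroup X) ⊓ X0).subgroupOf M ↔ _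
      rw [Subgroup.mem_subgroupOf]
      exact ⟨fun h => h.1, fun h => ⟨h, v.2.1⟩⟩
    have hiM : i ∈ M := hT0M ⟨H.iT, F.iX⟩
    have hjM : j ∈ M := hT0M ⟨H.jT, F.jX⟩
    have hnofus : ∀ k ∈ M, k * i * k⁻¹ ≠ j := by
      intro k hk e
      have h3M : ¬ 3 ∣ Nat.card M := fun h => hc3 c hc c1 (h.trans (Subgroup.card_dvd_of_le inf_le_right))
      have hij : i ≠ j := fun e' => by
        have h := H.icen z H.zT
        rw [e'] at h
        have h2 : (z * j) ^ 2 = 1 := by
          rw [pow_two, h.mul_mul_mul_comm, H.jj, H.zz S, one_mul]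
        have := orderOf_dvd_of_pow_eq_one h2
        rw [H.ord] at this
        have := Nat.le_of_dvd (by norm_num) (H.four.trans this)
        omega
      exact no_four_fusion P h3M (i := ⟨i, hiM⟩) (j := ⟨j, hjM⟩) ((hmemP _).2 H.iT) ((hmemP _).2 H.jT)
        (Subtype.ext H.ii) (fun h => H.i_ne (congrArg Subtype.val h)) (Subtype.ext H.jj)
        (fun h => H.j_ne (congrArg Subtype.val h)) (fun h => hij (congrArg Subtype.val h))
        (fun v hv => Subtype.ext (H.icen _ ((hmemP v).1 hv)).eq)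
        (fun u hu hu2 hu1 hui v hv hvu => by
          rcases H.refl_cent S ((hmemP u).1 hu) (congrArg Subtype.val hu2) (fun h => hu1 (Subtype.ext h))
            (fun h => hui (Subtype.ext h)) ((hmemP v).1 hv) (congrArg Subtype.val hvu.eq) with r | r | r | r
          exacts [Or.inl (Subtype.ext r), Or.inr (Or.inl (Subtype.ext r)), Or.inr (Or.inr (Or.inl (Subtype.ext r))),
            Or.inr (Or.inr (Or.inr (Subtype.ext r)))])
        ⟨k, hk⟩ (Subtype.ext e)
    have hzc : z * c * z⁻¹ = c⁻¹ := hzinv c hc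
    have hprod : Commute (z * y) c := by
      refine mul_inv_eq_iff_eq_mul.1 ?_
      rw [show z * y * c * (z * y)⁻¹ = z * (y * c * y⁻¹) * z⁻¹ by group, hyc, ← conj_inv, hzc, inv_inv]
    have hprod0 : z * y ∈ X0 := (Subgroup.mul_mem_iff_of_index_two F.idx).2 (iff_of_false F.zn hyi0)
    rcases Nat.even_or_odd (orderOf (z * y)) with he | ho
    · obtain ⟨hwo, hwz, hwy⟩ := S0209.result z y (S.orderZ S.zZt) (S.orderZ hyZ) he
      set w := (z * y) ^ (orderOf (z * y) / 2) with hw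
      have hw2 : w * w = 1 := by rw [← pow_two, ← hwo, pow_orderOf_eq_one]
      have hw1 : w ≠ 1 := fun e => by rw [e, orderOf_one] at hwo; norm_num at hwo
      have hwc : Commute w c := hprod.pow_left _
      have hwi : w = i := huniq z S.zZt c hc c1 hzc w i hw2 hw1 H.ii H.i_ne hwz hwc hzi.symm (hOi c hc).symm
      have hyi : Commute y i := hwi ▸ hwy.symm
      obtain ⟨o, ho, t, ht, hyot⟩ := hdecT y hyi
      have ht0 : t ∉ X0 := fun h => hyi0 (hyot ▸ mul_mem (hOX ho) h)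
      have hjt : Commute j t := by
        refine mul_inv_eq_iff_eq_mul.1 ?_
        have h1 : (j * o * j⁻¹) * (j * t * j⁻¹) = o * t := by
          rw [conj_mul, ← hyot, ← hyj.eq, mul_inv_cancel_right]
        have h2 : o⁻¹ * (j * o * j⁻¹) = t * (j * t * j⁻¹)⁻¹ := by
          calc o⁻¹ * (j * o * j⁻¹) = o⁻¹ * ((j * o * j⁻¹) * (j * t * j⁻¹)) * (j * t * j⁻¹)⁻¹ := by group
            _ = t * (j * t * j⁻¹)⁻¹ := by rw [h1]; group
        have h3 := hOT _ (mul_mem (inv_mem ho) (hnormal j (H.icen j H.jT).symm o ho))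
          (h2 ▸ mul_mem ht (inv_mem (mul_mem (mul_mem H.jT ht) (inv_mem H.jT))))
        rw [h2, mul_inv_eq_one] at h3
        exact h3.symm
      have hji : j ≠ i := fun e => hnofus 1 (one_mem M) (by rw [e]; group)
      rcases H.refl_cent S H.jT H.jj H.j_ne hji ht hjt.symm with r | r | r | r <;> apply ht0 <;> rw [r]
      exacts [one_mem _, F.iX, F.jX, mul_mem F.iX F.jX]
    · obtain ⟨m, hm⟩ := ho
      set q := (z * y) ^ m with hq
      have hkey := Fusion.invol_conj_zpow (S.orderZ S.zZt) (S.orderZ hyZ) (m : ℤ)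
      rw [zpow_neg, zpow_natCast, ← hq, Fusion.invol_inv (S.orderZ S.zZt)] at hkey
      have hqq : q * q * (z * y) = 1 := by
        rw [hq, ← pow_add, ← pow_succ, show m + m + 1 = orderOf (z * y) by omega, pow_orderOf_eq_one]
      have hqy : q * z * q⁻¹ = y := by
        have hzq : q * z = z * q⁻¹ := by rw [← hkey, ← mul_assoc, ← mul_assoc, H.zz S, one_mul]
        rw [hzq, mul_assoc, ← mul_inv_rev, show (q * q)⁻¹ = z * y from inv_eq_of_mul_eq_one_right hqq, ← mul_assoc,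
          H.zz S, one_mul]
      have hqc : Commute q c := hprod.pow_left m
      have hqi : q * i * q⁻¹ = j := by
        have hcmi : Commute (q * i * q⁻¹) c := by
          have := (Commute.conj_iff q).2 (hOi c hc).symm
          rwa [hqc.eq, mul_inv_cancel_right] at this
        refine huniq y hyZ c hc c1 hyc _ j (by rw [conj_mul, H.ii, mul_one, mul_inv_cancel])
          (fun h => H.i_ne (conj_eq_one_iff.1 h)) H.jj H.j_ne (hqy ▸ (Commute.conj_iff q).2 hzi.symm) hcmi hyj.symm hjc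
      exact hnofus q ⟨pow_mem hprod0 m, mem_cent.2 hqc⟩ hqi
  have hjinv : ∀ a ∈ O, j * a * j⁻¹ = a⁻¹ :=
    invert_of_fixfree H.jj (hnormal j (H.icen j H.jT).symm) hjfree
  have hr : ∀ a ∈ O, Commute (z * j) a := fun a ha => mul_inv_eq_iff_eq_mul.1 (by
    rw [show z * j * a * (z * j)⁻¹ = z * (j * a * j⁻¹) * z⁻¹ by group, hjinv a ha, ← conj_inv, hzinv a ha, inv_inv])
  have hfree : ∀ c ∈ O, c ≠ 1 → ∀ v ∈ X0, v * v = 1 → v ≠ 1 → Commute v i → Commute v c → v = i := by
    intro c hc c1 v hv hv2 hv1 hvi hvc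
    obtain ⟨o, ho, l, ⟨-, rfl⟩ | ⟨-, rfl⟩⟩ := hdec v hv hvi
    · have hcm : Commute ((z * j) ^ l) o := (hr o ho).zpow_left l
      rw [hcm.mul_mul_mul_comm] at hv2
      have h1 : o * o = 1 := hOT _ (mul_mem ho ho) (eq_inv_of_mul_eq_one_left hv2 ▸
        inv_mem (mul_mem (zpow_mem (mul_mem H.zT H.jT) l) (zpow_mem (mul_mem H.zT H.jT) l)))
      have o1 : o = 1 := by
        have h := pow_gcd_eq_one.2 ⟨(pow_two o).trans h1, pow_orderOf_eq_one o⟩
        rwa [(Nat.coprime_two_left.2 (hoddO o ho)).gcd_eq_one, pow_one] at h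
      rw [h1, one_mul, ← zpow_add, ← two_mul] at hv2
      rw [o1, one_mul] at hv1 ⊢
      exact (H.rot_invol S hv2).resolve_left hv1
    · exfalso
      have h := mul_inv_eq_iff_eq_mul.2 hvc.eq
      have hcinv : o * (z * (z * j) ^ l) * c * (o * (z * (z * j) ^ l))⁻¹ = c⁻¹ := by
        rw [show o * (z * (z * j) ^ l) * c * (o * (z * (z * j) ^ l))⁻¹ =
          o * (z * ((z * j) ^ l * c * ((z * j) ^ l)⁻¹) * z⁻¹) * o⁻¹ by group,
          ((hr c hc).zpow_left l).eq, mul_inv_cancel_right, hzinv c hc, (hab o ho c⁻¹ (inv_mem hc)).eq,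
          mul_inv_cancel_right]
      rw [hcinv, inv_eq_iff_mul_eq_one] at h
      have h2 := pow_gcd_eq_one.2 ⟨(pow_two c).trans h, pow_orderOf_eq_one c⟩
      rw [(Nat.coprime_two_left.2 (hoddO c hc)).gcd_eq_one, pow_one] at h2
      exact c1 h2
  refine ⟨O, hOodd, hab, hOi, hdec, hmem, hOX, hjinv, hzinv, hfree, ?_⟩
  intro g hg c hc c1 hgc
  set w := g * c * g⁻¹ with hw
  have hw1 : w ≠ 1 := fun e => c1 (conj_eq_one_iff.1 e)
  set M := X0 ⊓ Subgroup.centralizer ({w} : Set X) with hM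
  have hiM : i ∈ M := ⟨F.iX, mem_cent.2 (hOi w hgc).symm⟩
  have hi' : g * i * g⁻¹ ∈ M := ⟨X0.mul_mem (X0.mul_mem hg F.iX) (X0.inv_mem hg),
    mem_cent.2 ((Commute.conj_iff g).2 (hOi c hc).symm)⟩
  have hiso : Cfsg.IsIsolatedInvolution (⟨i, hiM⟩ : M) := by
    refine ⟨by rw [Subgroup.orderOf_mk, H.i2], fun m hm => Subtype.ext ?_⟩
    have h2 : Commute i ((m : X) * i * (m : X)⁻¹) := congrArg Subtype.val hm.eq
    show (m : X) * i * (m : X)⁻¹ = i
    exact hfree w hgc hw1 _ (mul_mem (mul_mem m.2.1 F.iX) (inv_mem m.2.1))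
      (by rw [conj_mul, H.ii, mul_one, mul_inv_cancel]) (fun h => H.i_ne (conj_eq_one_iff.1 h)) h2.symm (by
        have := (Commute.conj_iff (m : X)).2 (mem_cent.1 hiM.2)
        rwa [(mem_cent.1 m.2.2).eq, mul_inv_cancel_right] at this)
  have hstar := Char.zStar_isolated hiso ⟨g * i * g⁻¹, hi'⟩
  set OM := Cfsg.oddCore M with hOM
  haveI hOMn : OM.Normal := Cfsg.pPrimeCore_normal 2 M
  have hOMo : Odd (Nat.card OM) := Char.card_oddCore_odd M
  have h3M : ¬ 3 ∣ Nat.card M := fun h => hc3 w hgc hw1 (h.trans (Subgroup.card_dvd_of_le inf_le_right))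
  have hinvM : ∀ u, Zt u → Commute u i → ∀ a ∈ OM.map M.subtype, u * a * u⁻¹ = a⁻¹ := by
    intro u hu hui
    have huM : ∀ a ∈ M, u * a * u⁻¹ ∈ M := fun a ha => by
      refine ⟨hX0n.conj_mem a ha.1 u, mem_cent.2 ?_⟩
      have h := (Commute.conj_iff u).2 (mem_cent.1 ha.2).inv_right
      rwa [← conj_inv, hinvZ u hu hui w hgc, inv_inv] at h
    have hui' : u⁻¹ = u := Fusion.invol_inv (S.orderZ hu)
    let φ : M ≃* M :=
      { toFun := fun a => ⟨u * a * u⁻¹, huM a a.2⟩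
        invFun := fun a => ⟨u * a * u⁻¹, huM a a.2⟩
        left_inv := fun a => Subtype.ext (by
          show u * (u * (a : X) * u⁻¹) * u⁻¹ = a
          rw [show u * (u * (a : X) * u⁻¹) * u⁻¹ = (u * u) * a * (u * u)⁻¹ by group, S.sqZ u hu]; group)
        right_inv := fun a => Subtype.ext (by
          show u * (u * (a : X) * u⁻¹) * u⁻¹ = a
          rw [show u * (u * (a : X) * u⁻¹) * u⁻¹ = (u * u) * a * (u * u)⁻¹ by group, S.sqZ u hu]; group)
        map_mul' := fun a b => Subtype.ext (by show u * ((a : X) * b) * u⁻¹ = (u * a * u⁻¹) * (u * b * u⁻¹); group) }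
    haveI : (OM.map φ.toMonoidHom).Normal := hOMn.map _ φ.surjective
    have hle : OM.map φ.toMonoidHom ≤ OM := Fusion.le_pPrimeCore (by
      rw [Subgroup.card_map_of_injective φ.injective]
      exact Nat.coprime_two_right.2 hOMo)
    refine invert_of_fixfree (S.sqZ u hu) ?_ ?_
    · rintro _ ⟨a, ha, rfl⟩
      exact ⟨φ a, hle ⟨a, ha, rfl⟩, rfl⟩
    · rintro _ ⟨a, ha, rfl⟩ hua
      have hao : Odd (orderOf (a : X)) := by
        rw [Subgroup.orderOf_coe]; exact hOMo.of_dvd_nat (Subgroup.orderOf_dvd_natCard _ ha)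
      rcases (Nat.dvd_prime Nat.prime_three).1 (S.cz_odd hu hao hua) with e | e
      · exact orderOf_eq_one_iff.1 e
      · exact absurd (e ▸ Subgroup.orderOf_dvd_natCard M a.2) h3M
  have hziZ : Zt (z * i) := by
    obtain ⟨m, hm⟩ := H.four
    have := H.zrot S F hZ (m : ℤ)
    rwa [show (z * j) ^ (2 * (m : ℤ)) = i by
      rw [show (2 : ℤ) * m = ((2 * m : ℕ) : ℤ) by push_cast; ring, zpow_natCast, H.ihalf, hm,
        show 4 * m / 2 = 2 * m by omega]] at this
  have hiinv : ∀ a ∈ OM.map M.subtype, Commute i a := fun a ha => mul_inv_eq_iff_eq_mul.1 (by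
    have h1 := hinvM z S.zZt hzi a ha
    have h2 := hinvM (z * i) hziZ (hzi.mul_left (Commute.refl i)) a ha
    calc i * a * i⁻¹ = z⁻¹ * (z * i * a * (z * i)⁻¹) * z := by group
      _ = z⁻¹ * (z * a * z⁻¹) * z := by rw [h2, h1]
      _ = a := by group)
  set v := g * i * g⁻¹ with hv
  set o := i * v * i⁻¹ * v⁻¹ with ho'
  have hoM : o ∈ OM.map M.subtype := ⟨_, hstar, rfl⟩
  have hv2 : v * v = 1 := by rw [hv, conj_mul, H.ii, mul_one, mul_inv_cancel]
  clear_value v
  have hii : i⁻¹ = i := Fusion.invol_inv H.i2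
  have hvv : v⁻¹ = v := inv_eq_of_mul_eq_one_right hv2
  have hinvo : i * o * i⁻¹ = o⁻¹ := by
    rw [ho', hii, hvv, mul_inv_rev, mul_inv_rev, mul_inv_rev, hii, hvv]
    calc i * (i * v * i * v) * i = (i * i) * (v * i * v * i) := by group
      _ = v * (i * (v * i)) := by rw [H.ii, one_mul]; group
  rw [(hiinv o hoM).eq, mul_inv_cancel_right] at hinvo
  have ho2 : o * o = 1 := mul_eq_one_iff_eq_inv.2 hinvo
  have ho1 : o = 1 := by
    obtain ⟨a, ha, hae⟩ := hoM
    have hao : Odd (orderOf o) := by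
      rw [← hae]
      show Odd (orderOf (a : X))
      rw [Subgroup.orderOf_coe]; exact hOMo.of_dvd_nat (Subgroup.orderOf_dvd_natCard _ ha)
    have h := pow_gcd_eq_one.2 ⟨(pow_two o).trans ho2, pow_orderOf_eq_one o⟩
    rwa [(Nat.coprime_two_left.2 hao).gcd_eq_one, pow_one] at h
  rw [ho', mul_inv_eq_one, mul_inv_eq_iff_eq_mul] at ho1
  have hvi := hfree w hgc hw1 v hi'.1 hv2 (fun h => H.i_ne (conj_eq_one_iff.1 (hv.symm.trans h))) (ho1.symm : v * i = i * v)
    (mem_cent.1 hi'.2)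
  exact mul_inv_eq_iff_eq_mul.1 (hv.symm.trans hvi)

end Cfsg.Agent.Spor.SevenX
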