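import Cfsg.Agent.Lib.Spor.JFourLoc.SevX.Basics
import Cfsg.Agent.Lib.Fusion.ThompsonTransferCyclic

/-!
The subgroup of index two avoiding the special involutions.
-/

set_option autoImplicit false
set_option linter.unusedSectionVars false
set_option linter.style.haveILetI false

namespace Cfsg.Agent.Spor.SevenX

open Cfsg

universe u

variable {X : Type u} [Group X] [Finite X] {Zt : X → Prop} {z p d i j : X} {n : ℕ} {T : Sylow 2 X}

variable (H : Shape Zt z T i j n) (S : SevData Zt z p d)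
include H

theorem Shape.jj : j * j = 1 := by rw [← pow_two, ← H.j2, pow_orderOf_eq_one]

theorem Shape.ii : i * i = 1 := by rw [← pow_two, ← H.i2, pow_orderOf_eq_one]

theorem Shape.i_ne : i ≠ 1 := fun e => by
  have := H.i2; rw [e, orderOf_one] at this; norm_num at this

theorem Shape.j_ne : j ≠ 1 := fun e => by
  have := H.j2; rw [e, orderOf_one] at this; norm_num at this

include S

theorem Shape.zz : z * z = 1 := S.sqZ z S.zZt

theorem Shape.rpow_z (k : ℤ) : (z * j) ^ k * z = z * (z * j) ^ (-k) := by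
  have h := Fusion.invol_conj_zpow (S.orderZ S.zZt) H.j2 k
  rw [Fusion.invol_inv (S.orderZ S.zZt)] at h
  rw [← h, ← mul_assoc, ← mul_assoc, H.zz S, one_mul]

theorem Shape.j_eq : j = z * (z * j) ^ (1 : ℤ) := by rw [zpow_one, ← mul_assoc, H.zz S, one_mul]

theorem Shape.conj_refl (k a : ℤ) :
    (z * j) ^ k * (z * (z * j) ^ a) * ((z * j) ^ k)⁻¹ = z * (z * j) ^ (a - 2 * k) := by
  rw [← mul_assoc ((z * j) ^ k), H.rpow_z S, mul_assoc z, ← zpow_add, mul_assoc, ← zpow_neg, ← zpow_add]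
  congr 2; ring

theorem Shape.form {t : X} (ht : t ∈ T) : ∃ l : ℤ, t = (z * j) ^ l ∨ t = z * (z * j) ^ l := by
  have ht' : t ∈ (T : Subgroup X) := ht
  rw [H.eq] at ht'
  rcases (Fusion.mem_closure_pair_iff (S.orderZ S.zZt) H.j2 t).1 ht' with ⟨l, hl⟩ | ⟨l, hl⟩
  · exact ⟨l, Or.inl hl.symm⟩
  · exact ⟨l, Or.inr (by rw [show (z * j) ^ l = z * t from hl, ← mul_assoc, H.zz S, one_mul])⟩

theorem Shape.dvd_of_pow {l : ℤ} (h : (z * j) ^ l = 1) : (n : ℤ) ∣ l := by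
  rw [← H.ord]; exact orderOf_dvd_iff_zpow_eq_one.2 h

theorem Shape.z_not_rot (l : ℤ) : (z * j) ^ l ≠ z := fun e =>
  Fusion.invol_not_mem_zpowers (S.orderZ S.zZt) H.j2 (fun h => H.jZ (h ▸ S.zZt)) ⟨l, e⟩

theorem Shape.rot_invol {l : ℤ} (h : (z * j) ^ (2 * l) = 1) : (z * j) ^ l = 1 ∨ (z * j) ^ l = i := by
  obtain ⟨c, hc⟩ := H.dvd_of_pow S h
  obtain ⟨m, hm⟩ := (dvd_trans (by norm_num : 2 ∣ 4) H.four)
  have hl : l = (m : ℤ) * c := by
    subst hm; push_cast at hc; linarith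
  have hmi : (z * j) ^ m = i := by rw [H.ihalf, hm, Nat.mul_div_cancel_left m (by norm_num)]
  rcases Int.even_or_odd c with ⟨e, he⟩ | ⟨e, he⟩
  · left
    rw [hl, zpow_mul, zpow_natCast, hmi, he, ← two_mul, zpow_mul, zpow_two, H.ii, one_zpow]
  · right
    rw [hl, zpow_mul, zpow_natCast, hmi, he, zpow_add_one, zpow_mul, zpow_two, H.ii, one_zpow, one_mul]

/-- centralisers of reflections -/
theorem Shape.refl_cent {u v : X} (hu : u ∈ T) (hu2 : u * u = 1) (hu1 : u ≠ 1) (hui : u ≠ i) (hv : v ∈ T)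
    (hvu : Commute v u) : v = 1 ∨ v = i ∨ v = u ∨ v = i * u := by
  obtain ⟨a, ha | ha⟩ := H.form S hu
  · exfalso
    rw [ha, ← zpow_add] at hu2
    rcases H.rot_invol S (l := a) (by rw [two_mul]; exact hu2) with e | e
    · exact hu1 (ha.trans e)
    · exact hui (ha.trans e)
  obtain ⟨b, hb | hb⟩ := H.form S hv
  · have h := hvu.eq
    rw [ha, hb, ← mul_assoc, H.rpow_z S, mul_assoc, mul_assoc, ← zpow_add, ← zpow_add, mul_left_cancel_iff,
      ← mul_inv_eq_one, ← zpow_neg, ← zpow_add] at h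
    rcases H.rot_invol S (l := -b) (by rw [← h]; congr 1; ring) with e | e
    · left
      rw [hb]; rw [zpow_neg, inv_eq_one] at e; exact e
    · right; left
      rw [hb]; rw [zpow_neg] at e
      rw [← inv_inv ((z * j) ^ b), e]
      exact inv_eq_of_mul_eq_one_right H.ii
  · have h := hvu.eq
    have key : ∀ p q : ℤ, z * (z * j) ^ p * (z * (z * j) ^ q) = (z * j) ^ (q - p) := fun p q => by
      rw [mul_assoc z, ← mul_assoc ((z * j) ^ p), H.rpow_z S, ← mul_assoc, ← mul_assoc, H.zz S, one_mul, ← zpow_add]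
      congr 1; ring
    rw [ha, hb, key, key, ← mul_inv_eq_one, ← zpow_neg, ← zpow_add] at h
    rcases H.rot_invol S (l := a - b) (by rw [← h]; congr 1; ring) with e | e
    · right; right; left
      rw [hb, ha]
      congr 1
      rw [← mul_inv_eq_one, ← zpow_neg, ← zpow_add]
      have : ((z * j) ^ (a - b))⁻¹ = 1 := by rw [e, inv_one]
      rw [← zpow_neg] at this
      rw [← this]; congr 1; ring
    · right; right; right
      rw [(H.icen u hu).eq, ha, hb, mul_assoc, ← e, ← zpow_add]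
      have h2 : (z * j) ^ (2 * (a - b)) = 1 := by rw [two_mul, zpow_add, e, H.ii]
      congr 1
      calc (z * j) ^ b = (z * j) ^ b * (z * j) ^ (2 * (a - b)) := by rw [h2, mul_one]
        _ = (z * j) ^ (a + (a - b)) := by rw [← zpow_add]; congr 1; ring

/-- the subgroup of index two -/
structure Half (z : X) (T : Sylow 2 X) (i j : X) (X0 : Subgroup X) : Prop where
  idx : X0.index = 2
  zn : z ∉ X0
  iX : i ∈ X0
  jX : j ∈ X0
  rot : ∀ l : ℤ, (z * j) ^ l ∈ X0 ↔ Even l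
  odd : ∀ g : X, Odd (orderOf g) → g ∈ X0
  invol : ∀ u ∈ X0, u * u = 1 → u ≠ 1 → ∃ g ∈ X0, g * i * g⁻¹ = u
  out : ∀ u, u ∉ X0 → u * u = 1 → IsConj z u

theorem Shape.exists_half : ∃ X0 : Subgroup X, Half z T i j X0 ∧ ∀ u, Zt u → u ∉ X0 ∧ IsConj z u := by
  haveI : Fact (Nat.Prime 2) := ⟨Nat.prime_two⟩
  have hn2 : (2 : ℤ) ∣ n := by
    obtain ⟨m, hm⟩ := dvd_trans (by norm_num : 2 ∣ 4) H.four
    exact ⟨m, by rw [hm]; push_cast; ring⟩
  have key : ∀ p q : ℤ, z * (z * j) ^ p * (z * (z * j) ^ q) = (z * j) ^ (q - p) := fun p q => by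
    rw [mul_assoc z, ← mul_assoc ((z * j) ^ p), H.rpow_z S, ← mul_assoc, ← mul_assoc, H.zz S, one_mul, ← zpow_add]
    congr 1; ring
  let M : Subgroup X :=
    { carrier := {t | ∃ l : ℤ, (Even l ∧ t = (z * j) ^ l) ∨ (Odd l ∧ t = z * (z * j) ^ l)}
      one_mem' := ⟨0, Or.inl ⟨⟨0, rfl⟩, (zpow_zero _).symm⟩⟩
      mul_mem' := by
        rintro a b ⟨p, ⟨hp, rfl⟩ | ⟨hp, rfl⟩⟩ ⟨q, ⟨hq, rfl⟩ | ⟨hq, rfl⟩⟩
        · exact ⟨p + q, Or.inl ⟨hp.add hq, (zpow_add _ _ _).symm⟩⟩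
        · refine ⟨-p + q, Or.inr ⟨hp.neg.add_odd hq, ?_⟩⟩
          rw [← mul_assoc, H.rpow_z S, mul_assoc, ← zpow_add]
        · exact ⟨p + q, Or.inr ⟨hp.add_even hq, by rw [mul_assoc, ← zpow_add]⟩⟩
        · exact ⟨q - p, Or.inl ⟨hq.sub_odd hp, key p q⟩⟩
      inv_mem' := by
        rintro a ⟨p, ⟨hp, rfl⟩ | ⟨hp, rfl⟩⟩
        · exact ⟨-p, Or.inl ⟨hp.neg, (zpow_neg _ _).symm⟩⟩
        · refine ⟨p, Or.inr ⟨hp, inv_eq_of_mul_eq_one_right ?_⟩⟩
          rw [key, sub_self, zpow_zero] }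
  have hevn : ∀ l : ℤ, (z * j) ^ l = 1 → Even l := fun l h => even_iff_two_dvd.2 (hn2.trans (H.dvd_of_pow S h))
  have hrot : ∀ l : ℤ, (z * j) ^ l ∈ M ↔ Even l := by
    refine fun l => ⟨?_, fun h => ⟨l, Or.inl ⟨h, rfl⟩⟩⟩
    rintro ⟨p, ⟨hp, e⟩ | ⟨hp, e⟩⟩
    · have h := hevn (l - p) (by rw [zpow_sub, e, mul_inv_cancel])
      simpa using h.add hp
    · exfalso
      refine H.z_not_rot S (l - p) ?_
      rw [zpow_sub, e, mul_inv_cancel_right]
  have hrefl : ∀ l : ℤ, z * (z * j) ^ l ∈ M ↔ Odd l := by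
    refine fun l => ⟨?_, fun h => ⟨l, Or.inr ⟨h, rfl⟩⟩⟩
    rintro ⟨p, ⟨hp, e⟩ | ⟨hp, e⟩⟩
    · exfalso
      refine H.z_not_rot S (p - l) ?_
      rw [zpow_sub, ← e, mul_inv_cancel_right]
    · have h := hevn (l - p) (by rw [zpow_sub, mul_left_cancel e, mul_inv_cancel])
      simpa using h.add_odd hp
  have hiM : i ∈ M := by
    obtain ⟨m, hm⟩ := H.four
    refine ⟨(2 * m : ℕ), Or.inl ⟨by exact_mod_cast even_two_mul m, ?_⟩⟩
    rw [zpow_natCast, H.ihalf, hm, show 4 * m / 2 = 2 * m by omega]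
  have hjM : j ∈ M := ⟨1, Or.inr ⟨odd_one, H.j_eq S⟩⟩
  have hzM : z ∉ M := fun h => by
    have h' : z * (z * j) ^ (0 : ℤ) ∈ M := by rwa [zpow_zero, mul_one]
    exact Int.not_odd_zero ((hrefl 0).1 h')
  have hMT : M ≤ (T : Subgroup X) := by
    rintro t ⟨l, ⟨-, rfl⟩ | ⟨-, rfl⟩⟩
    exacts [zpow_mem (mul_mem H.zT H.jT) _, mul_mem H.zT (zpow_mem (mul_mem H.zT H.jT) _)]
  -- the involutions of the part
  have hMinv : ∀ t ∈ M, t * t = 1 → t ≠ 1 → IsConj i t ∧ ¬ Zt t := by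
    rintro t ⟨l, ⟨hl, rfl⟩ | ⟨hl, rfl⟩⟩ h2 h1
    · rcases H.rot_invol S (l := l) (by rw [two_mul, zpow_add]; exact h2) with e | e
      · exact absurd e h1
      · rw [e]; exact ⟨IsConj.refl i, H.iZ⟩
    · obtain ⟨k, rfl⟩ := hl
      have e : (z * j) ^ (-k) * j * ((z * j) ^ (-k))⁻¹ = z * (z * j) ^ (2 * k + 1) := by
        conv_lhs => arg 1; arg 2; rw [H.j_eq S]
        rw [H.conj_refl S]; congr 2; ring
      refine ⟨H.conj.trans (isConj_iff.2 ⟨_, e⟩), fun h => H.jZ ?_⟩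
      have := S.conjZ ((z * j) ^ (-k))⁻¹ _ h
      rwa [← e, inv_inv, show ((z * j) ^ (-k))⁻¹ * ((z * j) ^ (-k) * j * ((z * j) ^ (-k))⁻¹) * (z * j) ^ (-k) = j by group] at this
  -- transfer
  have hxor : ∀ t ∈ T, (t * z ∈ M ↔ t ∉ M) := by
    intro t ht
    obtain ⟨l, rfl | rfl⟩ := H.form S ht
    · rw [H.rpow_z S, hrefl, hrot, Int.not_even_iff_odd, odd_neg]
    · rw [mul_assoc, H.rpow_z S, ← mul_assoc, H.zz S, one_mul, hrot, hrefl, even_neg, Int.not_odd_iff_even]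
  have hidxM : (M.subgroupOf (T : Subgroup X)).index = 2 := by
    rw [Subgroup.index_eq_two_iff]
    refine ⟨⟨z, H.zT⟩, fun t => ?_⟩
    have h := hxor t t.2
    simp only [Subgroup.mem_subgroupOf, Subgroup.coe_mul]
    by_cases ht : (t : X) ∈ M
    · exact Or.inr ⟨ht, fun h' => h.1 h' ht⟩
    · exact Or.inl ⟨h.2 ht, ht⟩
  haveI hTn := Subgroup.normal_of_index_eq_two hidxM
  obtain ⟨X0, hX0, hz0⟩ : ∃ X0 : Subgroup X, X0.index = 2 ∧ z ∉ X0 := by
    have hcard : Nat.card (↥(T : Subgroup X) ⧸ M.subgroupOf (T : Subgroup X)) = 2 := by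
      rw [← Subgroup.index_eq_card, hidxM]
    have hcyc : IsCyclic (↥(T : Subgroup X) ⧸ M.subgroupOf (T : Subgroup X)) := isCyclic_of_prime_card hcard
    by_contra hcon
    obtain ⟨g, hg, -, -⟩ := Fusion.extremal_transfer_cyclic_of_kills T M hMT hcyc (S.orderZ S.zZt) H.zT hzM (fun f => by
      by_contra hf
      refine hcon ⟨f.ker, ?_, fun h => hf (MonoidHom.mem_ker.1 h)⟩
      have hd : f.ker.index ∣ 2 := by
        rw [Subgroup.index_ker]
        have h := f.range.card_subgroup_dvd_card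
        rwa [hcard] at h
      rcases (Nat.dvd_prime Nat.prime_two).1 hd with e | e
      · exact absurd (Subgroup.index_eq_one.1 e ▸ Subgroup.mem_top z : z ∈ f.ker) fun h => hf (MonoidHom.mem_ker.1 h)
      · exact e)
    exact (hMinv _ hg (by rw [conj_mul, H.zz S, mul_one, mul_inv_cancel])
      fun h => S.neZ z S.zZt (conj_eq_one_iff.1 h)).2 (S.conjZ g z S.zZt)
  haveI := Subgroup.normal_of_index_eq_two hX0
  have hmul := @Subgroup.mul_mem_iff_of_index_two _ _ X0 hX0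
  have hi0 : i ∈ X0 := by
    obtain ⟨m, hm⟩ := H.four
    rw [H.ihalf, hm, show 4 * m / 2 = 2 * m by omega, pow_mul, pow_two]
    exact pow_mem (Subgroup.mul_self_mem_of_index_two hX0 _) m
  have hj0 : j ∈ X0 := by
    obtain ⟨g, hg⟩ := isConj_iff.1 H.conj
    rw [← hg]
    exact (inferInstance : X0.Normal).conj_mem i hi0 g
  have hr0 : z * j ∉ X0 := fun h => hz0 ((hmul.1 h).2 hj0)
  have hrot0 : ∀ l : ℤ, (z * j) ^ l ∈ X0 ↔ Even l := by
    intro l
    have he : ∀ k : ℤ, (z * j) ^ (2 * k) ∈ X0 := fun k => by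
      rw [zpow_mul, zpow_two]; exact zpow_mem (Subgroup.mul_self_mem_of_index_two hX0 _) k
    rcases Int.even_or_odd l with ⟨k, rfl⟩ | ⟨k, rfl⟩
    · exact iff_of_true (by rw [← two_mul]; exact he k) ⟨k, rfl⟩
    · refine iff_of_false (fun h => hr0 ?_) (Int.not_even_iff_odd.2 ⟨k, rfl⟩)
      rw [zpow_add_one] at h
      exact (hmul.1 h).1 (he k)
  have hodd : ∀ g : X, Odd (orderOf g) → g ∈ X0 := by
    rintro g ⟨k, hk⟩
    have e : (g * g) ^ (k + 1) = g := by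
      rw [← pow_two, ← pow_mul, show 2 * (k + 1) = orderOf g + 1 by omega, pow_succ, pow_orderOf_eq_one, one_mul]
    rw [← e]
    exact pow_mem (Subgroup.mul_self_mem_of_index_two hX0 _) _
  have hM0 : ∀ t ∈ T, t ∈ X0 → t ∈ M := by
    intro t ht h0
    obtain ⟨l, rfl | rfl⟩ := H.form S ht
    · exact (hrot l).2 ((hrot0 l).1 h0)
    · refine (hrefl l).2 ?_
      by_contra hl
      exact hz0 ((hmul.1 h0).2 ((hrot0 l).2 (Int.not_odd_iff_even.1 hl)))
  have hsyl : ∀ u : X, u * u = 1 → u ≠ 1 → ∃ g, g * u * g⁻¹ ∈ T := by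
    intro u hu hu1
    obtain ⟨P, hP⟩ := (IsPGroup.of_card (n := 1) (by
      rw [Nat.card_zpowers, orderOf_eq_prime (by rw [pow_two]; exact hu) hu1, pow_one]) :
        IsPGroup 2 (Subgroup.zpowers u)).exists_le_sylow
    obtain ⟨g, hg⟩ := MulAction.exists_smul_eq X P T
    refine ⟨g, ?_⟩
    rw [← hg]
    exact ⟨u, hP (Subgroup.mem_zpowers u), rfl⟩
  have hinv : ∀ u ∈ X0, u * u = 1 → u ≠ 1 → ∃ g ∈ X0, g * i * g⁻¹ = u := by
    intro u hu hu2 hu1
    obtain ⟨g, hg⟩ := hsyl u hu2 hu1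
    have hg0 : g * u * g⁻¹ ∈ X0 := (inferInstance : X0.Normal).conj_mem u hu g
    obtain ⟨c, hc⟩ := isConj_iff.1 (hMinv _ (hM0 _ hg hg0) (by rw [conj_mul, hu2, mul_one, mul_inv_cancel])
      fun h => hu1 (conj_eq_one_iff.1 h)).1
    have hk : (g⁻¹ * c) * i * (g⁻¹ * c)⁻¹ = u := by
      rw [show (g⁻¹ * c) * i * (g⁻¹ * c)⁻¹ = g⁻¹ * (c * i * c⁻¹) * g by group, hc]; group
    by_cases hk0 : g⁻¹ * c ∈ X0
    · exact ⟨_, hk0, hk⟩
    · refine ⟨g⁻¹ * c * z, hmul.2 (iff_of_false hk0 hz0), ?_⟩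
      rw [show g⁻¹ * c * z * i * (g⁻¹ * c * z)⁻¹ = g⁻¹ * c * (z * i * z⁻¹) * (g⁻¹ * c)⁻¹ by group,
        ← (H.icen z H.zT).eq, mul_inv_cancel_right, hk]
  have hout : ∀ u, u ∉ X0 → u * u = 1 → IsConj z u := by
    intro u hu hu2
    have hu1 : u ≠ 1 := fun e => hu (e ▸ one_mem X0)
    obtain ⟨g, hg⟩ := hsyl u hu2 hu1
    have hg0 : g * u * g⁻¹ ∉ X0 := fun h => hu (by
      have := (inferInstance : X0.Normal).conj_mem _ h g⁻¹
      rwa [inv_inv, show g⁻¹ * (g * u * g⁻¹) * g = u by group] at this)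
    obtain ⟨l, hl | hl⟩ := H.form S hg
    · exfalso
      have h2 : (z * j) ^ l * (z * j) ^ l = 1 := by rw [← hl, conj_mul, hu2, mul_one, mul_inv_cancel]
      rw [← zpow_add, ← two_mul] at h2
      rcases H.rot_invol S h2 with e | e
      · exact hu1 (conj_eq_one_iff.1 (hl.trans e))
      · exact hg0 ((hl.trans e) ▸ hi0)
    · have hle : Even l := by
        by_contra ho
        refine hg0 (hl ▸ hmul.2 (iff_of_false hz0 fun h => ho ((hrot0 l).1 h)))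
      obtain ⟨k, rfl⟩ := hle
      refine (isConj_iff.2 ⟨(z * j) ^ (-k), ?_⟩ : IsConj z (g * u * g⁻¹)).trans (isConj_iff.2 ⟨g⁻¹, by group⟩)
      have := H.conj_refl S (-k) 0
      rw [zpow_zero, mul_one] at this
      rw [this, hl]; congr 2; ring
  refine ⟨X0, ⟨hX0, hz0, hi0, hj0, hrot0, hodd, hinv, hout⟩, fun u hu => ?_⟩
  have hu0 : u ∉ X0 := fun h => by
    obtain ⟨g, -, hg⟩ := hinv u h (S.sqZ u hu) (S.neZ u hu)
    apply H.iZ
    have := S.conjZ g⁻¹ u hu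
    rwa [← hg, inv_inv, show g⁻¹ * (g * i * g⁻¹) * g = i by group] at this
  exact ⟨hu0, hout u hu0 (S.sqZ u hu)⟩

end Cfsg.Agent.Spor.SevenX
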