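import Mathlib

/-!
Small facts on involutions: inverted subgroups, and a fusion lemma for dihedral-like Sylow 2-subgroups.
-/

set_option autoImplicit false
set_option linter.unusedSectionVars false

namespace Cfsg.Agent.Spor.SevenX

variable {G : Type*} [Group G] [Finite G]

/-- an involution without fixed points inverts -/
theorem invert_of_fixfree {F : Subgroup G} {u : G} (hu : u * u = 1) (hn : ∀ a ∈ F, u * a * u⁻¹ ∈ F)
    (h1 : ∀ a ∈ F, Commute u a → a = 1) : ∀ a ∈ F, u * a * u⁻¹ = a⁻¹ := by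
  have hui : u⁻¹ = u := inv_eq_of_mul_eq_one_right hu
  let φ : F → F := fun a => ⟨(a : G)⁻¹ * (u * a * u⁻¹), mul_mem (inv_mem a.2) (hn a a.2)⟩
  have hinj : Function.Injective φ := by
    intro a b e
    have e' : (a : G)⁻¹ * (u * a * u⁻¹) = (b : G)⁻¹ * (u * b * u⁻¹) := congrArg Subtype.val e
    have h := h1 ((b : G) * (a : G)⁻¹) (mul_mem b.2 (inv_mem a.2)) (mul_inv_eq_iff_eq_mul.1 (by
      calc u * ((b : G) * (a : G)⁻¹) * u⁻¹
          = (b : G) * ((b : G)⁻¹ * (u * b * u⁻¹)) * (u * a * u⁻¹)⁻¹ := by group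
        _ = (b : G) * ((a : G)⁻¹ * (u * a * u⁻¹)) * (u * a * u⁻¹)⁻¹ := by rw [e']
        _ = (b : G) * (a : G)⁻¹ := by group))
    exact Subtype.ext (mul_inv_eq_one.1 h).symm
  intro a ha
  obtain ⟨b, hb⟩ := (Finite.injective_iff_surjective.1 hinj) ⟨a, ha⟩
  have e : (b : G)⁻¹ * (u * b * u⁻¹) = a := congrArg Subtype.val hb
  rw [← e, hui, show u * ((b : G)⁻¹ * (u * b * u)) * u = u * (b : G)⁻¹ * u * b * (u * u) by group, hu, mul_one,
    mul_inv_rev, mul_inv_rev, mul_inv_rev, hui, inv_inv]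
  group

/-- a subgroup inverted by an element is abelian -/
theorem comm_of_invert {F : Subgroup G} {u : G} (h : ∀ a ∈ F, u * a * u⁻¹ = a⁻¹) :
    ∀ a ∈ F, ∀ b ∈ F, Commute a b := by
  intro a ha b hb
  have e : u * (b⁻¹ * a⁻¹) * u⁻¹ = b * a := by
    rw [show u * (b⁻¹ * a⁻¹) * u⁻¹ = (u * b⁻¹ * u⁻¹) * (u * a⁻¹ * u⁻¹) by group, h _ (inv_mem hb), h _ (inv_mem ha),
      inv_inv, inv_inv]
  rw [h _ (mul_mem (inv_mem hb) (inv_mem ha)), mul_inv_rev, inv_inv, inv_inv] at e
  exact e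

theorem pow_conj_iterate {n u : G} {σ : G → G} (hσ : ∀ a, σ a = n * a * n⁻¹) :
    ∀ k : ℕ, σ^[k] u = n ^ k * u * (n ^ k)⁻¹
  | 0 => by simp
  | k + 1 => by rw [Function.iterate_succ_apply', hσ, pow_conj_iterate hσ k, pow_succ']; group

/-- conjugation moving three commuting involutions in a cycle forces an element of order divisible by three -/
theorem three_dvd_of_cycle {n a b c : G} (hab : a ≠ b) (h1 : n * a * n⁻¹ = b) (h2 : n * b * n⁻¹ = c)
    (h3 : n * c * n⁻¹ = a) : 3 ∣ Nat.card G := by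
  have hac : a ≠ c := fun e => hab (by rw [← e] at h3; exact h3.symm.trans h1)
  have hcube : ∀ q : ℕ, n ^ (3 * q) * a * (n ^ (3 * q))⁻¹ = a := fun q => by
    induction q with
    | zero => simp
    | succ q ih =>
      rw [show 3 * (q + 1) = 3 + 3 * q by ring, pow_add,
        show n ^ 3 * n ^ (3 * q) * a * (n ^ 3 * n ^ (3 * q))⁻¹ = n ^ 3 * (n ^ (3 * q) * a * (n ^ (3 * q))⁻¹) * (n ^ 3)⁻¹ by
          group, ih, show n ^ 3 = n * n * n by rw [pow_succ, pow_two], show n * n * n * a * (n * n * n)⁻¹ = n * (n * (n * a * n⁻¹) * n⁻¹) * n⁻¹ by group, h1, h2, h3]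
  refine Nat.dvd_trans ?_ (orderOf_dvd_natCard n)
  have h := hcube (orderOf n / 3)
  have e := pow_orderOf_eq_one n
  rw [← Nat.mod_add_div (orderOf n) 3, pow_add] at e
  have hr : n ^ (orderOf n % 3) * a * (n ^ (orderOf n % 3))⁻¹ = a := by
    calc n ^ (orderOf n % 3) * a * (n ^ (orderOf n % 3))⁻¹
        = n ^ (orderOf n % 3) * (n ^ (3 * (orderOf n / 3)) * a * (n ^ (3 * (orderOf n / 3)))⁻¹) *
          (n ^ (orderOf n % 3))⁻¹ := by rw [h]
      _ = (n ^ (orderOf n % 3) * n ^ (3 * (orderOf n / 3))) * a *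
          (n ^ (orderOf n % 3) * n ^ (3 * (orderOf n / 3)))⁻¹ := by group
      _ = a := by rw [e]; group
  rcases (show orderOf n % 3 = 0 ∨ orderOf n % 3 = 1 ∨ orderOf n % 3 = 2 by omega) with e' | e' | e' <;>
    rw [e'] at hr
  · exact Nat.dvd_of_mod_eq_zero e'
  · rw [pow_one] at hr; exact absurd (h1.symm.trans hr).symm hab
  · rw [pow_two, show n * n * a * (n * n)⁻¹ = n * (n * a * n⁻¹) * n⁻¹ by group, h1, h2] at hr
    exact absurd hr.symm hac

/-- fusion in a four-group needs an element of order three -/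
theorem no_four_fusion (S : Sylow 2 G) (h3 : ¬ 3 ∣ Nat.card G) {i j : G} (hi : i ∈ S) (hj : j ∈ S)
    (hi2 : i * i = 1) (hi1 : i ≠ 1) (hj2 : j * j = 1) (hj1 : j ≠ 1) (hij : i ≠ j)
    (hcen : ∀ v ∈ S, Commute i v)
    (hC : ∀ u ∈ S, u * u = 1 → u ≠ 1 → u ≠ i → ∀ v ∈ S, Commute v u → v = 1 ∨ v = i ∨ v = u ∨ v = i * u)
    (k : G) : k * i * k⁻¹ ≠ j := by
  classical
  have : Fact (Nat.Prime 2) := ⟨Nat.prime_two⟩
  intro hk
  have hij' : Commute i j := hcen j hj
  have hU : ∀ {u : G}, u ∈ S → u * u = 1 → Commute i u →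
      ∃ U : Subgroup G, U ≤ (S : Subgroup G) ∧ ∀ v, v ∈ U ↔ v = 1 ∨ v = i ∨ v = u ∨ v = i * u := by
    intro u hu hu2 hiu
    have hii : ∀ a : G, i * (i * a) = a := fun a => by rw [← mul_assoc, hi2, one_mul]
    have hui : ∀ a : G, u * (i * a) = i * (u * a) := fun a => by rw [← mul_assoc, ← hiu.eq, mul_assoc]
    refine ⟨{ carrier := {v | v = 1 ∨ v = i ∨ v = u ∨ v = i * u}
              one_mem' := Or.inl rfl
              mul_mem' := ?_
              inv_mem' := ?_ }, ?_, fun v => Iff.rfl⟩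
    · rintro a b (rfl | rfl | rfl | rfl) (rfl | rfl | rfl | rfl) <;>
        simp [mul_assoc, hi2, hu2, hii, hui, hiu.eq.symm]
    · have e1 : i⁻¹ = i := inv_eq_of_mul_eq_one_right hi2
      have e2 : u⁻¹ = u := inv_eq_of_mul_eq_one_right hu2
      rintro a (rfl | rfl | rfl | rfl) <;> simp [e1, e2, hiu.eq]
    · rintro v (rfl | rfl | rfl | rfl)
      exacts [one_mem _, hi, hu, mul_mem hi hu]
  -- a conjugate of the Sylow subgroup centralising the second involution
  set W := Subgroup.centralizer ({j} : Set G) with hW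
  obtain ⟨U, hUS, hUm⟩ := hU hj hj2 hij'
  have hUW : U ≤ W := fun v hv => Subgroup.mem_centralizer_singleton_iff.2 (by
    rcases (hUm v).1 hv with rfl | rfl | rfl | rfl
    exacts [(Commute.one_left j).eq, hij'.eq, rfl, (hij'.mul_left (Commute.refl j)).eq])
  set S' : Sylow 2 G := k • S with hS'
  have hmemS' : ∀ {a : G}, a ∈ S' ↔ k⁻¹ * a * k ∈ S := fun {a} => by
    show a ∈ (S : Subgroup G).map (MulAut.conj k).toMonoidHom ↔ _
    rw [Subgroup.mem_map_equiv, MulAut.conj_symm_apply]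
    rfl
  have hS'W : (S' : Subgroup G) ≤ W := fun a ha => by
    refine Subgroup.mem_centralizer_singleton_iff.2 ?_
    have h := (Commute.conj_iff k).2 (hcen _ (hmemS'.1 ha))
    rw [hk, show k * (k⁻¹ * a * k) * k⁻¹ = a by group] at h
    exact h.eq.symm
  obtain ⟨R, hR⟩ := ((S.isPGroup'.to_le hUS).comap_of_injective W.subtype W.subtype_injective).exists_le_sylow
  obtain ⟨w, hw⟩ := MulAction.exists_smul_eq W (S'.subtype hS'W) R
  set g : G := (w : G) * k with hg
  have hgi : g * i * g⁻¹ = j := by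
    rw [hg, show (w : G) * k * i * ((w : G) * k)⁻¹ = (w : G) * (k * i * k⁻¹) * (w : G)⁻¹ by group, hk,
      show (w : G) * j = j * w from Subgroup.mem_centralizer_singleton_iff.1 w.2, mul_inv_cancel_right]
  have hUg : ∀ v ∈ U, g⁻¹ * v * g ∈ S := by
    intro v hv
    have h := hR (show (⟨v, hUW hv⟩ : W) ∈ U.comap W.subtype from hv)
    rw [← hw] at h
    have h' : (⟨v, hUW hv⟩ : W) ∈ ((S' : Subgroup G).subgroupOf W).map (MulAut.conj w).toMonoidHom := h
    rw [Subgroup.mem_map_equiv, MulAut.conj_symm_apply] at h'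
    have h2 : (w : G)⁻¹ * v * (w : G) ∈ S' := h'
    have h3' := hmemS'.1 h2
    rwa [hg, show ((w : G) * k)⁻¹ * v * ((w : G) * k) = k⁻¹ * ((w : G)⁻¹ * v * (w : G)) * k by group]
  -- the four-group inside
  set u := g⁻¹ * i * g with hu
  have huS : u ∈ S := hUg i ((hUm i).2 (Or.inr (Or.inl rfl)))
  have hu2 : u * u = 1 := by
    rw [hu, show g⁻¹ * i * g * (g⁻¹ * i * g) = g⁻¹ * (i * i) * g by group, hi2]; group
  have hu1 : u ≠ 1 := fun e => hi1 (by
    have : i = g * u * g⁻¹ := by rw [hu]; group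
    rw [this, e]; group)
  have hgu : g * u * g⁻¹ = i := by rw [hu]; group
  have hui : u ≠ i := fun e => hij (hgu.symm.trans (by rw [e, hgi]))
  have hgiu : g * (i * u) * g⁻¹ = j * i := by rw [← conj_mul, hgi, hgu]
  have hcycle : ∀ m : G, m * i * m⁻¹ = j → m * j * m⁻¹ = i * j → False := by
    intro m e1 e2
    refine h3 (three_dvd_of_cycle hij e1 e2 ?_)
    rw [← conj_mul, e1, e2, ← mul_assoc, ← hij'.eq, mul_assoc, hj2, mul_one]
  by_cases hbig : ∀ v ∈ S, v = 1 ∨ v = i ∨ v = j ∨ v = i * j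
  · -- the Sylow subgroup is the four-group
    have huj : u = j ∨ u = i * j := by
      rcases hbig u huS with e | e | e | e
      exacts [absurd e hu1, absurd e hui, Or.inl e, Or.inr e]
    rcases huj with e | e
    · -- a swap: its odd part fixes both
      have hgj : g * j * g⁻¹ = i := e ▸ hgu
      have hgij : g * (i * j) * g⁻¹ = i * j := by rw [← e, hgiu, e, hij'.eq]
      have hgn : g ∈ Subgroup.normalizer ((S : Subgroup G) : Set G) := by
        refine Subgroup.mem_normalizer_iff.2 fun a => ⟨fun ha => ?_, fun ha => ?_⟩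
        · rcases hbig a ha with r | r | r | r <;> rw [r]
          · simp
          · rw [hgi]; exact hj
          · rw [hgj]; exact hi
          · rw [hgij]; exact mul_mem hi hj
        · have : a = g⁻¹ * (g * a * g⁻¹) * g := by group
          rw [this]
          rcases hbig _ ha with r | r | r | r <;> rw [r]
          · simp
          · rw [← hu]; exact huS
          · rw [← hgi, show g⁻¹ * (g * i * g⁻¹) * g = i by group]; exact hi
          · rw [← hgij, show g⁻¹ * (g * (i * j) * g⁻¹) * g = i * j by group]; exact mul_mem hi hj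
      obtain ⟨a, b, hb, hab⟩ := Nat.exists_eq_pow_mul_and_not_dvd (orderOf_pos g).ne' 2 (by norm_num)
      set m := g ^ b with hm
      have hm2 : m ^ 2 ^ a = 1 := by rw [hm, ← pow_mul, mul_comm, ← hab, pow_orderOf_eq_one]
      have hp : IsPGroup 2 (Subgroup.zpowers m) := by
        rintro ⟨c, l, rfl⟩
        refine ⟨a, Subtype.ext ?_⟩
        show (m ^ l) ^ 2 ^ a = 1
        rw [← zpow_natCast, ← zpow_mul, mul_comm, zpow_mul, zpow_natCast, hm2, one_zpow]
      have hsup : IsPGroup 2 ((S : Subgroup G) ⊔ Subgroup.zpowers m : Subgroup G) :=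
        IsPGroup.to_sup_of_normal_left' S.isPGroup' hp (Subgroup.zpowers_le.2 (pow_mem hgn b))
      have hmS : m ∈ S := by
        have := S.3 hsup le_sup_left
        show m ∈ (S : Subgroup G)
        rw [← this]
        exact Subgroup.mem_sup_right (Subgroup.mem_zpowers m)
      have hfix : m * i * m⁻¹ = i := mul_inv_eq_iff_eq_mul.2 (hcen m hmS).symm.eq
      obtain ⟨c, rfl⟩ := Nat.odd_iff.2 (Nat.two_dvd_ne_zero.1 hb)
      have key : ∀ l : ℕ, g ^ (2 * l) * i * (g ^ (2 * l))⁻¹ = i := fun l => by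
        induction l with
        | zero => simp
        | succ l ih =>
          rw [show 2 * (l + 1) = 2 + 2 * l by ring, pow_add,
            show g ^ 2 * g ^ (2 * l) * i * (g ^ 2 * g ^ (2 * l))⁻¹ = g * (g * (g ^ (2 * l) * i * (g ^ (2 * l))⁻¹) * g⁻¹) * g⁻¹ by
              rw [pow_two]; group, ih, hgi, hgj]
      apply hij
      calc i = m * i * m⁻¹ := hfix.symm
        _ = g * (g ^ (2 * c) * i * (g ^ (2 * c))⁻¹) * g⁻¹ := by rw [hm, pow_succ']; group
        _ = j := by rw [key, hgi]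
    · refine hcycle g hgi ?_
      have hji : j = i * u := by rw [e, ← mul_assoc, hi2, one_mul]
      conv_lhs => rw [hji]
      rw [hgiu, hij'.eq]
  · push Not at hbig
    -- a larger Sylow subgroup moves the reflections of a four-group
    have hswap : ∀ {v : G}, v ∈ S → v * v = 1 → v ≠ 1 → v ≠ i → ∃ q ∈ S, q * v * q⁻¹ = i * v := by
      intro v hv hv2 hv1 hvi
      obtain ⟨V, hVS, hVm⟩ := hU hv hv2 (hcen v hv)
      have := (S.isPGroup').isNilpotent
      have hlt : V.subgroupOf (S : Subgroup G) < ⊤ := by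
        refine lt_top_iff_ne_top.2 fun h => ?_
        rw [Subgroup.subgroupOf_eq_top] at h
        obtain ⟨y, hy, y1, y2, y3, y4⟩ := hbig
        have hjv := (hVm j).1 (h hj)
        rcases hjv with e | e | e | e
        · exact hj1 e
        · exact hij e.symm
        · rcases (hVm y).1 (h hy) with r | r | r | r
          exacts [y1 r, y2 r, y3 (r.trans e.symm), y4 (r.trans (by rw [e]))]
        · rcases (hVm y).1 (h hy) with r | r | r | r
          exacts [y1 r, y2 r, y4 (r.trans (by rw [e, ← mul_assoc, hi2, one_mul])), y3 (r.trans e.symm)]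
      obtain ⟨q, hqN, hqV⟩ := SetLike.exists_of_lt (Group.normalizerCondition_of_isNilpotent _ hlt)
      have hqv : (q : G) * v * (q : G)⁻¹ ∈ V := by
        have := (Subgroup.mem_normalizer_iff.1 hqN ⟨v, hv⟩).1 ((hVm v).2 (Or.inr (Or.inr (Or.inl rfl))))
        exact this
      refine ⟨q, q.2, ?_⟩
      rcases (hVm _).1 hqv with e | e | e | e
      · exact absurd (conj_eq_one_iff.1 e) hv1
      · exfalso
        apply hvi
        have : v = (q : G)⁻¹ * ((q : G) * v * (q : G)⁻¹) * q := by group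
        rw [this, e, mul_assoc, (hcen q q.2).eq, inv_mul_cancel_left]
      · exact absurd ((hVm _).2 (hC v hv hv2 hv1 hvi q q.2 (mul_inv_eq_iff_eq_mul.1 e))) hqV
      · exact e
    obtain ⟨q, hq, hqj⟩ := hswap hj hj2 hj1 hij.symm
    obtain ⟨q', hq', hqu⟩ := hswap huS hu2 hu1 hui
    set m' := g * q' * g⁻¹ with hm'
    have e1 : m' * i * m'⁻¹ = i * j := by
      rw [hm', show g * q' * g⁻¹ * i * (g * q' * g⁻¹)⁻¹ = g * (q' * (g⁻¹ * i * g) * q'⁻¹) * g⁻¹ by group, ← hu, hqu,
        hgiu, hij'.eq]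
    have e2 : m' * j * m'⁻¹ = j := by
      rw [hm', show g * q' * g⁻¹ * j * (g * q' * g⁻¹)⁻¹ = g * (q' * (g⁻¹ * j * g) * q'⁻¹) * g⁻¹ by group,
        show g⁻¹ * j * g = i by rw [← hgi]; group, ← (hcen q' hq').eq, mul_inv_cancel_right, hgi]
    have e3 : q * i * q⁻¹ = i := by rw [← (hcen q hq).eq, mul_inv_cancel_right]
    refine hcycle (q * m') ?_ ?_
    · rw [show q * m' * i * (q * m')⁻¹ = q * (m' * i * m'⁻¹) * q⁻¹ by group, e1, ← conj_mul, e3, hqj,
        ← mul_assoc, hi2, one_mul]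
    · rw [show q * m' * j * (q * m')⁻¹ = q * (m' * j * m'⁻¹) * q⁻¹ by group, e2, hqj]

end Cfsg.Agent.Spor.SevenX
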